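import Groth.Agent.EtaleBase.BCD.Basic
import Groth.Agent.EtaleBase.Limit.StalkMor
import Groth.Agent.EtaleBase.InjCoh
import Groth.Agent.Misc7.HDU.Push

/-!
The comparison of complexes of the base change morphism on stalks, composition of squares, and
étale squares.
-/

set_option autoImplicit false

universe u

open CategoryTheory CategoryTheory.Limits AlgebraicGeometry

namespace Groth.EtaleBase.BCD

open EtLimit

attribute [local instance] pull_preservesFiniteLimits

local notation "up" => ComplexShape.up ℤ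

section Hom

variable {C D : Type*} [Category* C] [Category* D] [Abelian C] [Abelian D] (F : C ⥤ D) [F.Additive]
  [F.PreservesHomology]

lemma isIso_map_homologyMap_iff {K L : CochainComplex C ℤ} (φ : K ⟶ L) (i : ℤ) :
    IsIso (F.map (HomologicalComplex.homologyMap φ i)) ↔
      QuasiIsoAt ((F.mapHomologicalComplex up).map φ) i := by
  rw [quasiIsoAt_iff, ShortComplex.quasiIso_iff]
  let ψ := (HomologicalComplex.shortComplexFunctor C up i).map φ
  have h : ShortComplex.homologyMap (F.mapShortComplex.map ψ) ≫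
      (((HomologicalComplex.shortComplexFunctor C up i).obj L).mapHomologyIso F).hom =
    (((HomologicalComplex.shortComplexFunctor C up i).obj K).mapHomologyIso F).hom ≫
      F.map (HomologicalComplex.homologyMap φ i) :=
    ShortComplex.mapHomologyIso_hom_naturality ψ F
  change _ ↔ IsIso (ShortComplex.homologyMap (F.mapShortComplex.map ψ))
  constructor
  · intro hi
    haveI : IsIso (ShortComplex.homologyMap (F.mapShortComplex.map ψ) ≫
        (((HomologicalComplex.shortComplexFunctor C up i).obj L).mapHomologyIso F).hom) := by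
      rw [h]; exact IsIso.comp_isIso' inferInstance hi
    exact IsIso.of_isIso_comp_right _ (((HomologicalComplex.shortComplexFunctor C up i).obj L).mapHomologyIso F).hom
  · intro hi
    haveI : IsIso ((((HomologicalComplex.shortComplexFunctor C up i).obj K).mapHomologyIso F).hom ≫
        F.map (HomologicalComplex.homologyMap φ i)) := by
      rw [← h]; exact IsIso.comp_isIso' hi inferInstance
    exact @IsIso.of_isIso_comp_left _ _ _ _ _ (((HomologicalComplex.shortComplexFunctor C up i).obj K).mapHomologyIso F).hom _ inferInstance this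

end Hom

variable {X S X' S' : Scheme.{u}} (f : X ⟶ S) (g : S' ⟶ S) (f' : X' ⟶ S') (g' : X' ⟶ X)
  (w : g' ≫ f = f' ≫ g) {Ω : Type u} [Field Ω] [IsSepClosed Ω] (ξ : Spec (CommRingCat.of Ω) ⟶ S')

/-- The degree zero base change morphism with coefficients. -/
noncomputable def bc0 {F : EtCoh.Ab X} {F' : EtCoh.Ab X'} (α : (EtCoh.pull g').obj F ⟶ F') :
    (EtCoh.pull g).obj ((EtCoh.push f).obj F) ⟶ (EtCoh.push f').obj F' :=
  ((EtCoh.pullPushAdj g).homEquiv _ _).symm ((EtBC.pushToPushPull f g f' g' w).app F ≫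
    (EtCoh.push g).map ((EtCoh.push f').map α))

/-- The same on stalks. -/
noncomputable def st0 {F : EtCoh.Ab X} {F' : EtCoh.Ab X'} (α : (EtCoh.pull g').obj F ⟶ F') :
    (EtCoh.stalk (ξ ≫ g)).obj ((EtCoh.push f).obj F) ⟶ (EtCoh.stalk ξ).obj ((EtCoh.push f').obj F') :=
  (stalkPullIso g ξ).hom.app _ ≫ (EtCoh.stalk ξ).map (bc0 f g f' g' w α)

lemma bc0_eq {F : EtCoh.Ab X} {F' : EtCoh.Ab X'} (α : (EtCoh.pull g').obj F ⟶ F') :
    bc0 f g f' g' w α = EtCoh.baseChange0 f g f' g' w F ≫ (EtCoh.push f').map α := by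
  refine ((EtCoh.pullPushAdj g).homEquiv_naturality_right_symm _ _).trans (congrArg (· ≫ _) ?_)
  refine congrArg ((EtCoh.pullPushAdj g).homEquiv _ _).symm ?_
  simp only [EtBC.pushToPushPull, NatTrans.comp_app, Functor.leftUnitor_inv_app, Functor.associator_hom_app,
    Functor.whiskerRight_app, Functor.whiskerLeft_app]
  exact (Category.id_comp _).trans (congrArg (_ ≫ ·) (Category.id_comp _))

instance preservesFiniteLimits_push (h : X ⟶ S) : PreservesFiniteLimits (EtCoh.push h) :=
  haveI : PreservesLimitsOfSize.{0, 0} (EtCoh.push h) := (EtCoh.pullPushAdj h).rightAdjoint_preservesLimits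
  PreservesLimitsOfSize.preservesFiniteLimits _

/-- Comparison with the base change morphism on stalks of the zeroth higher direct image. -/
theorem stalkBC_zero {F : EtCoh.Ab X} {F' : EtCoh.Ab X'} (α : (EtCoh.pull g').obj F ⟶ F') :
    (EtCoh.stalk (ξ ≫ g)).map ((EtCoh.push f).toRightDerivedZero.app F) ≫
        stalkBC f g f' g' w α ξ 0 =
      st0 f g f' g' w ξ α ≫ (EtCoh.stalk ξ).map ((EtCoh.push f').toRightDerivedZero.app F') := by
  unfold stalkBC st0
  refine (Category.assoc _ _ _).symm.trans ((congrArg (· ≫ _)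
    ((stalkPullIso g ξ).hom.naturality _)).trans ?_)
  refine (Category.assoc _ _ _).trans (Eq.trans ?_ (Category.assoc _ _ _).symm)
  refine congrArg (_ ≫ ·) (((EtCoh.stalk ξ).map_comp _ _).symm.trans
    (Eq.trans (congrArg _ ?_) ((EtCoh.stalk ξ).map_comp _ _)))
  rw [bc0_eq]
  refine (Category.assoc _ _ _).symm.trans ((congrArg (· ≫ _) (EtBC.bcQ_zero_compat f g f' g' w F)).trans ?_)
  refine (Category.assoc _ _ _).trans (Eq.trans ?_ (Category.assoc _ _ _).symm)
  exact congrArg (_ ≫ ·) ((EtCoh.push f').toRightDerivedZero.naturality α).symm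

lemma bijective_st0_iff {F : EtCoh.Ab X} {F' : EtCoh.Ab X'} (α : (EtCoh.pull g').obj F ⟶ F') :
    IsIso (st0 f g f' g' w ξ α) ↔ Function.Bijective (stalkBC f g f' g' w α ξ 0) := by
  rw [← ConcreteCategory.isIso_iff_bijective]
  have h := stalkBC_zero f g f' g' w ξ α
  constructor
  · intro hi
    haveI : IsIso ((EtCoh.stalk (ξ ≫ g)).map ((EtCoh.push f).toRightDerivedZero.app F) ≫
        stalkBC f g f' g' w α ξ 0) := by rw [h]; infer_instance
    exact IsIso.of_isIso_comp_left ((EtCoh.stalk (ξ ≫ g)).map ((EtCoh.push f).toRightDerivedZero.app F)) _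
  · intro hi
    haveI : IsIso (st0 f g f' g' w ξ α ≫ (EtCoh.stalk ξ).map ((EtCoh.push f').toRightDerivedZero.app F')) := by
      rw [← h]; infer_instance
    exact IsIso.of_isIso_comp_right _ ((EtCoh.stalk ξ).map ((EtCoh.push f').toRightDerivedZero.app F'))

section Comp

variable {X'' S'' : Scheme.{u}} (f'' : X'' ⟶ S'') (h : S'' ⟶ S') (k : X'' ⟶ X') (w' : k ≫ f' = f'' ≫ h)
  (w'' : (k ≫ g') ≫ f = f'' ≫ (h ≫ g))

/-- Pasting of squares on stalks. -/
theorem st0_comp {F : EtCoh.Ab X} {F' : EtCoh.Ab X'} {F'' : EtCoh.Ab X''}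
    (α : (EtCoh.pull g').obj F ⟶ F') (β : (EtCoh.pull k).obj F' ⟶ F'')
    (ζ : Spec (CommRingCat.of Ω) ⟶ S'') :
    st0 f g f' g' w (ζ ≫ h) α ≫ st0 f' h f'' k w' ζ β =
      st0 f (h ≫ g) f'' (k ≫ g') w'' ζ (EtLimit.coeffComp g' k α β) := by
  haveI : IsIso ((EtCoh.stalk ζ).map ((EtCoh.push f'').toRightDerivedZero.app F'')) := inferInstance
  apply (cancel_mono ((EtCoh.stalk ζ).map ((EtCoh.push f'').toRightDerivedZero.app F''))).1
  refine (Category.assoc _ _ _).trans ?_
  refine (congrArg (_ ≫ ·) (stalkBC_zero f' h f'' k w' ζ β).symm).trans ?_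
  refine (Category.assoc _ _ _).symm.trans ((congrArg (· ≫ _) (stalkBC_zero f g f' g' w (ζ ≫ h) α).symm).trans ?_)
  refine (Category.assoc _ _ _).trans (Eq.trans ?_ (stalkBC_zero f (h ≫ g) f'' (k ≫ g') w'' ζ
    (EtLimit.coeffComp g' k α β)))
  refine congrArg ((EtCoh.stalk (ζ ≫ h ≫ g)).map ((EtCoh.push f).toRightDerivedZero.app F) ≫ ·) ?_
  ext x
  exact stalkBC_comp f g f' g' w f'' h k w' w'' α β ζ 0 x

end Comp

/-- The stalk complex of a direct image. -/
noncomputable abbrev stX {T B : Scheme.{u}} (p : T ⟶ B) (η : Spec (CommRingCat.of Ω) ⟶ B)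
    (I : CochainComplex (EtCoh.Ab T) ℤ) : CochainComplex AddCommGrpCat.{u + 1} ℤ :=
  ((EtCoh.stalk η).mapHomologicalComplex up).obj (((EtCoh.push p).mapHomologicalComplex up).obj I)

/-- The comparison of stalk complexes. -/
noncomputable def stCx {I : CochainComplex (EtCoh.Ab X) ℤ} {J : CochainComplex (EtCoh.Ab X') ℤ}
    (φ : ((EtCoh.pull g').mapHomologicalComplex up).obj I ⟶ J) :
    stX f (ξ ≫ g) I ⟶ stX f' ξ J :=
  (NatTrans.mapHomologicalComplex (stalkPullIso g ξ).hom up).app
      (((EtCoh.push f).mapHomologicalComplex up).obj I) ≫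
    ((EtCoh.stalk ξ).mapHomologicalComplex up).map (cxMap f g f' g' w φ)

lemma stCx_f {I : CochainComplex (EtCoh.Ab X) ℤ} {J : CochainComplex (EtCoh.Ab X') ℤ}
    (φ : ((EtCoh.pull g').mapHomologicalComplex up).obj I ⟶ J) (n : ℤ) :
    (stCx f g f' g' w ξ φ).f n = st0 f g f' g' w ξ (φ.f n) := rfl

lemma quasiIso_stCx_iff {I : CochainComplex (EtCoh.Ab X) ℤ} {J : CochainComplex (EtCoh.Ab X') ℤ}
    (φ : ((EtCoh.pull g').mapHomologicalComplex up).obj I ⟶ J) :
    QuasiIso (stCx f g f' g' w ξ φ) ↔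
      QuasiIso (((EtCoh.stalk ξ).mapHomologicalComplex up).map (cxMap f g f' g' w φ)) := by
  haveI : IsIso ((NatTrans.mapHomologicalComplex (stalkPullIso g ξ).hom up).app
      (((EtCoh.push f).mapHomologicalComplex up).obj I)) :=
    haveI : ∀ n, IsIso (((NatTrans.mapHomologicalComplex (stalkPullIso g ξ).hom up).app
      (((EtCoh.push f).mapHomologicalComplex up).obj I)).f n) := fun n =>
      inferInstanceAs (IsIso ((stalkPullIso g ξ).hom.app _))
    HomologicalComplex.Hom.isIso_of_components _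
  unfold stCx
  exact quasiIso_iff_comp_left _ _

/-- The comparison is a quasi-isomorphism if it is so on all stalks. -/
theorem quasiIso_cxMap_iff {I : CochainComplex (EtCoh.Ab X) ℤ} {J : CochainComplex (EtCoh.Ab X') ℤ}
    (φ : ((EtCoh.pull g').mapHomologicalComplex up).obj I ⟶ J) :
    QuasiIso (cxMap f g f' g' w φ) ↔
      ∀ s : S', QuasiIso (stCx f g f' g' w (geomPoint s) φ) := by
  constructor
  · intro h s
    rw [quasiIso_stCx_iff, quasiIso_iff]
    rw [quasiIso_iff] at h
    intro i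
    refine (isIso_map_homologyMap_iff (EtCoh.stalk (geomPoint s)) _ i).1 ?_
    haveI := (quasiIsoAt_iff_isIso_homologyMap _ _).1 (h i)
    infer_instance
  · intro h
    rw [quasiIso_iff]
    intro i
    rw [quasiIsoAt_iff_isIso_homologyMap]
    haveI : ∀ s : S', IsIso ((stalkAt s).map (HomologicalComplex.homologyMap (cxMap f g f' g' w φ) i)) :=
      fun s => (isIso_map_homologyMap_iff (EtCoh.stalk (geomPoint s)) _ i).2 ((quasiIso_iff _).1 ((quasiIso_stCx_iff f g f' g' w (geomPoint s) φ).1 (h s)) i)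
    exact stalkAt_jointlyReflectIsomorphisms.isIso _

lemma quasiIso_stCx {I : CochainComplex (EtCoh.Ab X) ℤ} {J : CochainComplex (EtCoh.Ab X') ℤ}
    (φ : ((EtCoh.pull g').mapHomologicalComplex up).obj I ⟶ J) (h : QuasiIso (cxMap f g f' g' w φ)) :
    QuasiIso (stCx f g f' g' w ξ φ) :=
  (quasiIso_stCx_iff f g f' g' w ξ φ).2 inferInstance

section CompCx

variable {X'' S'' : Scheme.{u}} (f'' : X'' ⟶ S'') (h : S'' ⟶ S') (k : X'' ⟶ X') (w' : k ≫ f' = f'' ≫ h)
  (w'' : (k ≫ g') ≫ f = f'' ≫ (h ≫ g))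

/-- Coefficients of a pasted square. -/
noncomputable def cxComp {I : CochainComplex (EtCoh.Ab X) ℤ} {J : CochainComplex (EtCoh.Ab X') ℤ}
    {L : CochainComplex (EtCoh.Ab X'') ℤ}
    (φ : ((EtCoh.pull g').mapHomologicalComplex up).obj I ⟶ J)
    (ψ : ((EtCoh.pull k).mapHomologicalComplex up).obj J ⟶ L) :
    ((EtCoh.pull (k ≫ g')).mapHomologicalComplex up).obj I ⟶ L :=
  (NatTrans.mapHomologicalComplex (EtCore.pullComp k g').hom up).app I ≫
    (Functor.mapHomologicalComplexCompIso (Iso.refl (EtCoh.pull g' ⋙ EtCoh.pull k)) up).inv.app I ≫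
      ((EtCoh.pull k).mapHomologicalComplex up).map φ ≫ ψ

lemma cxComp_f {I : CochainComplex (EtCoh.Ab X) ℤ} {J : CochainComplex (EtCoh.Ab X') ℤ}
    {L : CochainComplex (EtCoh.Ab X'') ℤ}
    (φ : ((EtCoh.pull g').mapHomologicalComplex up).obj I ⟶ J)
    (ψ : ((EtCoh.pull k).mapHomologicalComplex up).obj J ⟶ L) (n : ℤ) :
    (cxComp g' k φ ψ).f n = EtLimit.coeffComp g' k (φ.f n) (ψ.f n) := by
  simp [cxComp, EtLimit.coeffComp]
  rfl

lemma quasiIso_cxComp {I : CochainComplex (EtCoh.Ab X) ℤ} {J : CochainComplex (EtCoh.Ab X') ℤ}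
    {L : CochainComplex (EtCoh.Ab X'') ℤ}
    (φ : ((EtCoh.pull g').mapHomologicalComplex up).obj I ⟶ J)
    (ψ : ((EtCoh.pull k).mapHomologicalComplex up).obj J ⟶ L) [QuasiIso φ] [QuasiIso ψ] :
    QuasiIso (cxComp g' k φ ψ) := by
  haveI : ∀ n, IsIso (((NatTrans.mapHomologicalComplex (EtCore.pullComp k g').hom up).app I).f n) := fun n =>
    inferInstanceAs (IsIso ((EtCore.pullComp k g').hom.app _))
  haveI : IsIso ((NatTrans.mapHomologicalComplex (EtCore.pullComp k g').hom up).app I) :=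
    HomologicalComplex.Hom.isIso_of_components _
  unfold cxComp
  infer_instance

/-- Pasting of squares on stalk complexes. -/
theorem stCx_comp {I : CochainComplex (EtCoh.Ab X) ℤ} {J : CochainComplex (EtCoh.Ab X') ℤ}
    {L : CochainComplex (EtCoh.Ab X'') ℤ}
    (φ : ((EtCoh.pull g').mapHomologicalComplex up).obj I ⟶ J)
    (ψ : ((EtCoh.pull k).mapHomologicalComplex up).obj J ⟶ L) (ζ : Spec (CommRingCat.of Ω) ⟶ S'') :
    stCx f g f' g' w (ζ ≫ h) φ ≫ stCx f' h f'' k w' ζ ψ =
      stCx f (h ≫ g) f'' (k ≫ g') w'' ζ (cxComp g' k φ ψ) := by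
  refine HomologicalComplex.hom_ext _ _ fun n => ?_
  refine (st0_comp f g f' g' w f'' h k w' w'' (φ.f n) (ψ.f n) ζ).trans ?_
  exact congrArg (st0 f (h ≫ g) f'' (k ≫ g') w'' ζ) (cxComp_f g' k φ ψ n).symm

end CompCx

section Etale

variable {f g f' g'} (c : IsPullback g' f' f g) [AlgebraicGeometry.Etale g]

include c in
/-- Étale base change on stalk complexes. -/
theorem isIso_stCx_etale {I : CochainComplex (EtCoh.Ab X) ℤ} {J : CochainComplex (EtCoh.Ab X') ℤ}
    (φ : ((EtCoh.pull g').mapHomologicalComplex up).obj I ⟶ J) [IsIso φ] :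
    IsIso (stCx f g f' g' c.w ξ φ) := by
  haveI : ∀ n, IsIso (φ.f n) := fun n => inferInstanceAs (IsIso ((HomologicalComplex.eval _ up n).map φ))
  haveI : ∀ n, IsIso ((stCx f g f' g' c.w ξ φ).f n) := fun n =>
    (bijective_st0_iff f g f' g' c.w ξ (φ.f n)).2
      (@bijective_stalkBC_etale _ _ _ _ _ _ _ _ _ c _ _ _ (φ.f n) (inferInstanceAs (IsIso ((HomologicalComplex.eval _ up n).map φ))) _ _ _ ξ 0)
  exact HomologicalComplex.Hom.isIso_of_components _

/-- Inverse images along étale morphisms preserve K-injective complexes. -/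
theorem isKInjective_pull_etale (j : X' ⟶ X) [AlgebraicGeometry.Etale j]
    (I : CochainComplex (EtCoh.Ab X) ℤ) [I.IsKInjective] :
    CochainComplex.IsKInjective (((EtCoh.pull j).mapHomologicalComplex up).obj I) := by
  haveI := InjCoh.jCont j
  haveI := extZero_preservesFiniteLimits j
  haveI : PreservesFiniteColimits (EtShriek.extZero j) :=
    haveI : PreservesColimitsOfSize.{0, 0} (EtShriek.extZero j) :=
      (EtShriek.extZeroAdj j).leftAdjoint_preservesColimits
    PreservesColimitsOfSize.preservesFiniteColimits _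
  haveI := preservesBinaryBiproducts_of_preservesBinaryCoproducts (EtShriek.extZero j)
  haveI : (EtShriek.extZero j).Additive := Functor.additive_of_preservesBinaryBiproducts _
  exact Groth.Misc7.HDU.isKInjective_map_of_adjunction
    ((EtShriek.extZeroAdj j).ofNatIsoRight (pullRestrIso j).symm) I

end Etale

end Groth.EtaleBase.BCD
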