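import Groth.Agent.EtaleBase.BCD.Stalk
import Groth.Agent.Misc7.GSS.Acyclic
import Mathlib.Algebra.Homology.Factorizations.CM5a

/-!
Direct image along a morphism of a bounded below complex of acyclic sheaves computes the derived
direct image.
-/

set_option autoImplicit false

universe u

open CategoryTheory CategoryTheory.Limits AlgebraicGeometry

namespace Groth.EtaleBase.BCD

attribute [local instance] HasDerivedCategory.standard

local notation "up" => ComplexShape.up ℤ

variable {X Y : Scheme.{u}}

/-- A resolution by injectives of a bounded below complex. -/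
lemma exists_injective_resolution {A : Type*} [Category* A] [Abelian A] [EnoughInjectives A]
    (C : CochainComplex A ℤ) (a : ℤ) [C.IsStrictlyGE a] :
    ∃ (J : CochainComplex A ℤ) (i : C ⟶ J), QuasiIso i ∧ (∀ n, Injective (J.X n)) ∧ J.IsStrictlyGE a := by
  obtain ⟨J, i, hi, hinj, hJ⟩ := CochainComplex.Plus.modelCategoryQuillen.exists_quasiIso_injective C a
  exact ⟨J, i, hi, hinj, hJ⟩

/-- The unit is invertible on bounded below complexes of acyclic sheaves. -/
theorem isIso_β_of_acyclic (f : X ⟶ Y) [DCoh.HasRpushEt X f] (C : CochainComplex (EtCoh.Ab X) ℤ) (a : ℤ)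
    [C.IsStrictlyGE a] (hC : ∀ n, Groth.CohFin.RightAcyclic (EtCoh.push f) (C.X n)) :
    IsIso ((β f).app ((HomotopyCategory.quotient _ up).obj C)) := by
  obtain ⟨J, i, hi, hinj, hJ⟩ := exists_injective_resolution C a
  haveI : J.IsKInjective := CochainComplex.isKInjective_of_injective J a
  haveI := preservesFiniteLimits_push f
  haveI := Groth.Misc7.GSS.quasiIso_mapHomologicalComplex (EtCoh.push f) a hC
    (fun n => haveI := hinj n; Groth.CohFin.rightAcyclic_of_injective _ _) i
  have hβ := SiteCohomology.EtPushComp.isIso_unit_app f J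
  have h1 : IsIso (DerivedCategory.Qh.map ((HomotopyCategory.quotient _ up).map i)) :=
    Localization.inverts DerivedCategory.Qh (HomotopyCategory.quasiIso (EtCoh.Ab X) up) _
      ((HomotopyCategory.quotient_map_mem_quasiIso_iff i).2 ((HomologicalComplex.mem_quasiIso_iff i).2 hi))
  have h2 : IsIso (DerivedCategory.Qh.map ((HomotopyCategory.quotient _ up).map
      (((EtCoh.push f).mapHomologicalComplex up).map i))) :=
    Localization.inverts DerivedCategory.Qh (HomotopyCategory.quasiIso (EtCoh.Ab Y) up) _
      ((HomotopyCategory.quotient_map_mem_quasiIso_iff _).2 ((HomologicalComplex.mem_quasiIso_iff _).2 inferInstance))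
  have e := (β f).naturality ((HomotopyCategory.quotient _ up).map i)
  haveI h3 : IsIso ((DCoh.RpushEt X f).map (DerivedCategory.Qh.map ((HomotopyCategory.quotient _ up).map i))) :=
    @Functor.map_isIso _ _ _ _ _ _ (DCoh.RpushEt X f) _ h1
  have h4 : IsIso ((β f).app ((HomotopyCategory.quotient _ up).obj C) ≫
      (DCoh.RpushEt X f).map (DerivedCategory.Qh.map ((HomotopyCategory.quotient _ up).map i))) :=
    e ▸ (IsIso.comp_isIso' h2 hβ)
  exact @IsIso.of_isIso_comp_right _ _ _ _ _ _ _ h3 h4

end Groth.EtaleBase.BCD
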