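import Groth.Prelude.Def_EtBCD
import Groth.Agent.DerivedAdj.Basic
import Groth.Agent.DerivedCoh.KInj.Resolution
import Groth.Agent.EtaleBase.PullStalk
import Groth.Agent.SiteCohomology.EtPushComp

/-!
The base change morphism on derived categories is computed by a map of complexes.
-/

set_option autoImplicit false

universe u

open CategoryTheory CategoryTheory.Limits AlgebraicGeometry

namespace Groth.EtaleBase.BCD

attribute [local instance] HasDerivedCategory.standard

local notation "up" => ComplexShape.up ℤ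

variable {X S X' S' : Scheme.{u}}

/-- The derived adjunction of inverse and direct image. -/
noncomputable def adj₀ (g : S' ⟶ S) [PreservesFiniteLimits (EtCoh.pull g)] [DCoh.HasRpushEt S' g] :
    EtBC.pullD g ⊣ DCoh.RpushEt S' g :=
  DerivedAdj.derivedAdj (EtCoh.pullPushAdj g) (SiteCohomology.EtPushComp.enoughKInj S')

/-- The unit of `Rf_*`. -/
noncomputable abbrev β (f : X ⟶ S) [DCoh.HasRpushEt X f] :
    DCoh.pushEtKh X f ⟶ DerivedCategory.Qh ⋙ DCoh.RpushEt X f :=
  (DCoh.pushEtKh X f).totalRightDerivedUnit DerivedCategory.Qh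
    (HomotopyCategory.quasiIso (EtCoh.Ab X) up)

/-- The adjunction of homotopy categories. -/
noncomputable abbrev hadj (g : S' ⟶ S) :
    (EtCoh.pull g).mapHomotopyCategory up ⊣ (EtCoh.push g).mapHomotopyCategory up :=
  DerivedAdj.mapHomotopyCategoryAdj (EtCoh.pullPushAdj g) up

/-- Transposes under the derived adjunction. -/
theorem adj₀_symm (g : S' ⟶ S) [PreservesFiniteLimits (EtCoh.pull g)] [DCoh.HasRpushEt S' g]
    (M : HomotopyCategory (EtCoh.Ab S) up) (J : HomotopyCategory (EtCoh.Ab S') up)
    (a : M ⟶ ((EtCoh.push g).mapHomotopyCategory up).obj J) :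
    ((adj₀ g).homEquiv (DerivedCategory.Qh.obj M) (DerivedCategory.Qh.obj J)).symm
        (DerivedCategory.Qh.map a ≫ (β g).app J) =
      (EtCoh.pull g).mapDerivedCategoryFactorsh.hom.app M ≫
        DerivedCategory.Qh.map (((hadj g).homEquiv M J).symm a) := by
  rw [Equiv.symm_apply_eq, Adjunction.homEquiv_unit]
  haveI : (EtBC.pullD g).IsLeftDerivedFunctor (EtCoh.pull g).mapDerivedCategoryFactorsh.hom
      (HomotopyCategory.quasiIso (EtCoh.Ab S) up) :=
    Functor.isLeftDerivedFunctor_of_inverts _ _ _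
  haveI : (EtBC.pullD g ⋙ DCoh.RpushEt S' g).IsLeftDerivedFunctor
      ((Functor.associator _ _ _).inv ≫
        Functor.whiskerRight (EtCoh.pull g).mapDerivedCategoryFactorsh.hom (DCoh.RpushEt S' g))
      (HomotopyCategory.quasiIso (EtCoh.Ab S) up) :=
    Functor.isLeftDerivedFunctor_of_inverts (L := DerivedCategory.Qh) _ _
      ((Functor.associator _ _ _).symm ≪≫
        Functor.isoWhiskerRight (EtCoh.pull g).mapDerivedCategoryFactorsh (DCoh.RpushEt S' g))
  have hη : (adj₀ g).unit.app (DerivedCategory.Qh.obj M) ≫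
      (DCoh.RpushEt S' g).map ((EtCoh.pull g).mapDerivedCategoryFactorsh.hom.app M) =
      DerivedCategory.Qh.map ((hadj g).unit.app M) ≫
        (β g).app (((EtCoh.pull g).mapHomotopyCategory up).obj M) := by
    simp only [adj₀, DerivedAdj.derivedAdj, Adjunction.derived_unit]
    exact Adjunction.derivedη_fac_app _ _ _ _ M
  have hn : (β g).app (((EtCoh.pull g).mapHomotopyCategory up).obj M) ≫
      (DCoh.RpushEt S' g).map (DerivedCategory.Qh.map (((hadj g).homEquiv M J).symm a)) =
      DerivedCategory.Qh.map (((EtCoh.push g).mapHomotopyCategory up).map (((hadj g).homEquiv M J).symm a)) ≫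
        (β g).app J := ((β g).naturality _).symm
  have hm := DerivedCategory.Qh.map_comp ((hadj g).unit.app M)
    (((EtCoh.push g).mapHomotopyCategory up).map (((hadj g).homEquiv M J).symm a))
  have ha : (hadj g).unit.app M ≫
      ((EtCoh.push g).mapHomotopyCategory up).map (((hadj g).homEquiv M J).symm a) = a :=
    ((hadj g).homEquiv_unit _ _ _).symm.trans (Equiv.apply_symm_apply _ _)
  rw [ha] at hm
  rw [Functor.map_comp]
  refine Eq.symm ?_
  refine (Category.assoc _ _ _).symm.trans ((congrArg (· ≫ _) hη).trans ?_)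
  refine (Category.assoc _ _ _).trans ((congrArg (_ ≫ ·) hn).trans ?_)
  exact (Category.assoc _ _ _).symm.trans (congrArg (· ≫ _) hm.symm)

section Aux

variable {A B C D : Type*} [Category* A] [Category* B] [Category* C] [Category* D]

lemma symm_comp_of_sq {L : A ⥤ B} {R : B ⥤ A} (adj : L ⊣ R) {x x' : A} {y y' : B} {a : x ⟶ R.obj y}
    {a' : x' ⟶ R.obj y'} {d : x ⟶ x'} {e : y ⟶ y'} (h : a ≫ R.map e = d ≫ a') :
    (adj.homEquiv x y).symm a ≫ e = L.map d ≫ (adj.homEquiv x' y').symm a' := by
  rw [← adj.homEquiv_naturality_right_symm, ← adj.homEquiv_naturality_left_symm, h]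

lemma sq_of_natTrans {F : A ⥤ C} {M : A ⥤ B} {N : B ⥤ D} {R : D ⥤ C} (P : F ⟶ M ⋙ N ⋙ R) {x x' : A}
    {y y' : B} (d : x ⟶ x') (e : y ⟶ y') (φ : M.obj x ⟶ y) (φ' : M.obj x' ⟶ y')
    (h : φ ≫ e = M.map d ≫ φ') :
    (P.app x ≫ R.map (N.map φ)) ≫ R.map (N.map e) = F.map d ≫ P.app x' ≫ R.map (N.map φ') := by
  rw [Category.assoc, ← Functor.map_comp, ← Functor.map_comp, h, Functor.map_comp, Functor.map_comp,
    ← reassoc_of% (P.naturality d)]

end Aux

section Square

variable (f : X ⟶ S) (g : S' ⟶ S) (f' : X' ⟶ S') (g' : X' ⟶ X) (w : g' ≫ f = f' ≫ g)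

/-- The comparison of complexes attached to a morphism of complexes on the top of a square. -/
noncomputable def cxMap {I : CochainComplex (EtCoh.Ab X) ℤ} {J : CochainComplex (EtCoh.Ab X') ℤ}
    (φ : ((EtCoh.pull g').mapHomologicalComplex up).obj I ⟶ J) :
    ((EtCoh.pull g).mapHomologicalComplex up).obj (((EtCoh.push f).mapHomologicalComplex up).obj I) ⟶
      ((EtCoh.push f').mapHomologicalComplex up).obj J where
  f n := ((EtCoh.pullPushAdj g).homEquiv _ _).symm ((EtBC.pushToPushPull f g f' g' w).app (I.X n) ≫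
    (EtCoh.push g).map ((EtCoh.push f').map (φ.f n)))
  comm' i j _ := symm_comp_of_sq (EtCoh.pullPushAdj g)
    (sq_of_natTrans (EtBC.pushToPushPull f g f' g' w) (I.d i j) (J.d i j) (φ.f i) (φ.f j) (φ.comm i j))

variable [PreservesFiniteLimits (EtCoh.pull g')] [DCoh.HasRpushEt X f] [DCoh.HasRpushEt X' f']
  [DCoh.HasRpushEt S' g]

/-- The identification of the inverse image of a complex with a resolution. -/
noncomputable abbrev resMap {I : CochainComplex (EtCoh.Ab X) ℤ} {J : CochainComplex (EtCoh.Ab X') ℤ}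
    (φ : ((EtCoh.pull g').mapHomologicalComplex up).obj I ⟶ J) :
    (EtBC.pullD g').obj (DerivedCategory.Qh.obj ((HomotopyCategory.quotient _ up).obj I)) ⟶
      DerivedCategory.Qh.obj ((HomotopyCategory.quotient _ up).obj J) :=
  (EtCoh.pull g').mapDerivedCategoryFactorsh.hom.app ((HomotopyCategory.quotient _ up).obj I) ≫
    DerivedCategory.Qh.map ((HomotopyCategory.quotient _ up).map φ)

/-- The adjoint comparison on complexes. -/
noncomputable abbrev cxAdj {I : CochainComplex (EtCoh.Ab X) ℤ} {J : CochainComplex (EtCoh.Ab X') ℤ}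
    (φ : ((EtCoh.pull g').mapHomologicalComplex up).obj I ⟶ J) :
    ((EtCoh.push f).mapHomotopyCategory up).obj ((HomotopyCategory.quotient _ up).obj I) ⟶
      ((EtCoh.push g).mapHomotopyCategory up).obj
        (((EtCoh.push f').mapHomotopyCategory up).obj ((HomotopyCategory.quotient _ up).obj J)) :=
  (EtBC.pushToPushPullH f g f' g' w).app ((HomotopyCategory.quotient _ up).obj I) ≫
    ((EtCoh.push g).mapHomotopyCategory up).map (((EtCoh.push f').mapHomotopyCategory up).map
      ((HomotopyCategory.quotient _ up).map φ))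

theorem bcAdj_resMap {I : CochainComplex (EtCoh.Ab X) ℤ} {J : CochainComplex (EtCoh.Ab X') ℤ}
    (φ : ((EtCoh.pull g').mapHomologicalComplex up).obj I ⟶ J) :
    (β f).app ((HomotopyCategory.quotient _ up).obj I) ≫
        (EtBC.bcAdj f g f' g' w).app (DerivedCategory.Qh.obj ((HomotopyCategory.quotient _ up).obj I)) ≫
          (DCoh.RpushEt S' g).map ((DCoh.RpushEt X' f').map (resMap g' φ)) =
      DerivedCategory.Qh.map (cxAdj f g f' g' w φ) ≫
        (β g).app (((EtCoh.push f').mapHomotopyCategory up).obj ((HomotopyCategory.quotient _ up).obj J)) ≫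
          (DCoh.RpushEt S' g).map ((β f').app ((HomotopyCategory.quotient _ up).obj J)) := by
  have h := (DCoh.RpushEt X f).rightDerived_fac_app (β f) (HomotopyCategory.quasiIso (EtCoh.Ab X) up)
    (EtBC.pullD g' ⋙ DCoh.RpushEt X' f' ⋙ DCoh.RpushEt S' g) (EtBC.bcUnit f g f' g' w)
    ((HomotopyCategory.quotient _ up).obj I)
  have hb : (EtBC.bcUnit f g f' g' w).app ((HomotopyCategory.quotient _ up).obj I) =
      DerivedCategory.Qh.map ((EtBC.pushToPushPullH f g f' g' w).app ((HomotopyCategory.quotient _ up).obj I)) ≫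
        (β g).app (((EtCoh.push f').mapHomotopyCategory up).obj
          (((EtCoh.pull g').mapHomotopyCategory up).obj ((HomotopyCategory.quotient _ up).obj I))) ≫
        (DCoh.RpushEt S' g).map ((β f').app
          (((EtCoh.pull g').mapHomotopyCategory up).obj ((HomotopyCategory.quotient _ up).obj I))) ≫
        (DCoh.RpushEt S' g).map ((DCoh.RpushEt X' f').map
          ((EtCoh.pull g').mapDerivedCategoryFactorsh.inv.app ((HomotopyCategory.quotient _ up).obj I))) := by
    simp [EtBC.bcUnit, β]
  have hinv : (EtCoh.pull g').mapDerivedCategoryFactorsh.inv.app ((HomotopyCategory.quotient _ up).obj I) ≫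
      resMap g' φ = DerivedCategory.Qh.map ((HomotopyCategory.quotient _ up).map φ) :=
    ((EtCoh.pull g').mapDerivedCategoryFactorsh.app _).inv_hom_id_assoc _
  refine (Category.assoc _ _ _).symm.trans ((congrArg (· ≫ _) (h.trans hb)).trans ?_)
  simp only [Category.assoc]
  rw [← (DCoh.RpushEt S' g).map_comp, ← (DCoh.RpushEt X' f').map_comp, hinv, ← (DCoh.RpushEt S' g).map_comp]
  have n' := (β f').naturality ((HomotopyCategory.quotient _ up).map φ)
  refine (congrArg (CategoryStruct.comp _) (congrArg (CategoryStruct.comp _) (congrArg (DCoh.RpushEt S' g).map n'.symm))).trans ?_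
  rw [Functor.map_comp]
  refine Eq.trans ?_ ((congrArg (· ≫ _) (DerivedCategory.Qh.map_comp _ _)).trans (Category.assoc _ _ _)).symm
  refine congrArg (_ ≫ ·) ?_
  refine (Category.assoc _ _ _).symm.trans (Eq.trans ?_ (Category.assoc _ _ _))
  exact congrArg (· ≫ _) ((β g).naturality (((EtCoh.push f').mapHomotopyCategory up).map
    ((HomotopyCategory.quotient _ up).map φ))).symm

variable [PreservesFiniteLimits (EtCoh.pull g)]

lemma hadj_symm_cxAdj {I : CochainComplex (EtCoh.Ab X) ℤ} {J : CochainComplex (EtCoh.Ab X') ℤ}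
    (φ : ((EtCoh.pull g').mapHomologicalComplex up).obj I ⟶ J) :
    ((hadj g).homEquiv _ _).symm (cxAdj f g f' g' w φ) =
      (HomotopyCategory.quotient _ up).map (cxMap f g f' g' w φ) := by
  rw [Adjunction.homEquiv_counit]
  simp only [cxAdj, EtBC.pushToPushPullH]
  refine (congrArg (· ≫ _) (congrArg ((EtCoh.pull g).mapHomotopyCategory up).map
    (show _ = (HomotopyCategory.quotient _ up).map
      ({ f := fun n => (EtBC.pushToPushPull f g f' g' w).app (I.X n) ≫
          (EtCoh.push g).map ((EtCoh.push f').map (φ.f n))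
         comm' := ?_ } : ((EtCoh.push f).mapHomologicalComplex up).obj I ⟶
          ((EtCoh.push g).mapHomologicalComplex up).obj (((EtCoh.push f').mapHomologicalComplex up).obj J))
      from ?_))).trans ?_
  · intro i j _
    exact sq_of_natTrans (EtBC.pushToPushPull f g f' g' w) (I.d i j) (J.d i j) (φ.f i) (φ.f j) (φ.comm i j)
  · simp [Functor.mapHomotopyCategoryCompIso, Functor.mapHomologicalComplexCompIso, ← Functor.map_comp]
    congr 1
  · refine ((HomotopyCategory.quotient _ up).map_comp _ _).symm.trans (congrArg _ ?_)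
    refine HomologicalComplex.hom_ext _ _ fun n => ?_
    exact ((EtCoh.pullPushAdj g).homEquiv_counit _ _ _).symm

/-- The base change morphism on complexes. -/
theorem bcMap_adj₀_fac {I : CochainComplex (EtCoh.Ab X) ℤ} {J : CochainComplex (EtCoh.Ab X') ℤ}
    (φ : ((EtCoh.pull g').mapHomologicalComplex up).obj I ⟶ J) :
    (EtBC.pullD g).map ((β f).app ((HomotopyCategory.quotient _ up).obj I)) ≫
        EtBC.bcMap f g f' g' w (adj₀ g) (DerivedCategory.Qh.obj ((HomotopyCategory.quotient _ up).obj I)) ≫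
          (DCoh.RpushEt X' f').map (resMap g' φ) =
      (EtCoh.pull g).mapDerivedCategoryFactorsh.hom.app
          (((EtCoh.push f).mapHomotopyCategory up).obj ((HomotopyCategory.quotient _ up).obj I)) ≫
        DerivedCategory.Qh.map ((HomotopyCategory.quotient _ up).map (cxMap f g f' g' w φ)) ≫
          (β f').app ((HomotopyCategory.quotient _ up).obj J) := by
  unfold EtBC.bcMap
  rw [← Adjunction.homEquiv_naturality_right_symm]
  refine ((adj₀ g).homEquiv_naturality_left_symm _ _).symm.trans ?_
  refine (congrArg ((adj₀ g).homEquiv _ _).symm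
    ((bcAdj_resMap f g f' g' w φ).trans (Category.assoc _ _ _).symm)).trans ?_
  rw [Adjunction.homEquiv_naturality_right_symm]
  refine (congrArg (· ≫ _) (adj₀_symm g _ _ _)).trans ((Category.assoc _ _ _).trans ?_)
  rw [hadj_symm_cxAdj]
  rfl

lemma isIso_bcMap_congr (adj adj' : EtBC.pullD g ⊣ DCoh.RpushEt S' g) (K : DCoh.DEt X)
    (h : IsIso (EtBC.bcMap f g f' g' w adj' K)) : IsIso (EtBC.bcMap f g f' g' w adj K) := by
  have e : EtBC.bcMap f g f' g' w adj K =
      (adj.leftAdjointUniq adj').hom.app _ ≫ EtBC.bcMap f g f' g' w adj' K := by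
    apply (adj.homEquiv _ _).injective
    rw [Adjunction.homEquiv_naturality_right, Adjunction.homEquiv_leftAdjointUniq_hom_app]
    refine (Equiv.apply_symm_apply _ _).trans ?_
    exact ((adj'.homEquiv_unit _ _ _).symm.trans (Equiv.apply_symm_apply _ _)).symm
  rw [e]
  infer_instance

/-- Computation of the base change morphism by complexes on which the units are invertible. -/
theorem isIso_bcMap_iff' (adj : EtBC.pullD g ⊣ DCoh.RpushEt S' g) {K : DCoh.DEt X}
    (I : CochainComplex (EtCoh.Ab X) ℤ)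
    (hβ : IsIso ((β f).app ((HomotopyCategory.quotient _ up).obj I)))
    (eK : DerivedCategory.Qh.obj ((HomotopyCategory.quotient _ up).obj I) ≅ K)
    (J : CochainComplex (EtCoh.Ab X') ℤ)
    (hβ' : IsIso ((β f').app ((HomotopyCategory.quotient _ up).obj J)))
    (φ : ((EtCoh.pull g').mapHomologicalComplex up).obj I ⟶ J) [QuasiIso φ] :
    IsIso (EtBC.bcMap f g f' g' w adj K) ↔ QuasiIso (cxMap f g f' g' w φ) := by
  let L := DerivedCategory.Qh.obj ((HomotopyCategory.quotient _ up).obj I)
  have step : IsIso (EtBC.bcMap f g f' g' w adj K) ↔ IsIso (EtBC.bcMap f g f' g' w adj L) := by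
    have hn : (EtBC.pullD g).map ((DCoh.RpushEt X f).map eK.hom) ≫ EtBC.bcMap f g f' g' w adj K =
        EtBC.bcMap f g f' g' w adj L ≫ (DCoh.RpushEt X' f').map ((EtBC.pullD g').map eK.hom) := by
      unfold EtBC.bcMap
      rw [← Adjunction.homEquiv_naturality_left_symm, ← Adjunction.homEquiv_naturality_right_symm]
      exact congrArg (adj.homEquiv _ _).symm ((EtBC.bcAdj f g f' g' w).naturality eK.hom)
    constructor <;> intro h
    · have : IsIso (EtBC.bcMap f g f' g' w adj L ≫
          (DCoh.RpushEt X' f').map ((EtBC.pullD g').map eK.hom)) := hn ▸ inferInstance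
      exact IsIso.of_isIso_comp_right _ ((DCoh.RpushEt X' f').map ((EtBC.pullD g').map eK.hom))
    · have : IsIso ((EtBC.pullD g).map ((DCoh.RpushEt X f).map eK.hom) ≫ EtBC.bcMap f g f' g' w adj K) :=
        hn.symm ▸ inferInstance
      exact IsIso.of_isIso_comp_left ((EtBC.pullD g).map ((DCoh.RpushEt X f).map eK.hom)) _
  rw [step]
  have hcongr : IsIso (EtBC.bcMap f g f' g' w adj L) ↔ IsIso (EtBC.bcMap f g f' g' w (adj₀ g) L) :=
    ⟨isIso_bcMap_congr f g f' g' w _ _ L, isIso_bcMap_congr f g f' g' w _ _ L⟩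
  rw [hcongr]
  have hφ : IsIso (DerivedCategory.Qh.map ((HomotopyCategory.quotient _ up).map φ)) :=
    Localization.inverts DerivedCategory.Qh (HomotopyCategory.quasiIso (EtCoh.Ab X') up) _
      ((HomotopyCategory.quotient_map_mem_quasiIso_iff φ).2 ((HomologicalComplex.mem_quasiIso_iff φ).2 inferInstance))
  have hfac := bcMap_adj₀_fac f g f' g' w φ
  have hiff : QuasiIso (cxMap f g f' g' w φ) ↔
      IsIso (DerivedCategory.Qh.map ((HomotopyCategory.quotient _ up).map (cxMap f g f' g' w φ))) :=
    (((DerivedCategory.isIso_Qh_map_iff _).trans (HomotopyCategory.quotient_map_mem_quasiIso_iff _)).trans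
      (HomologicalComplex.mem_quasiIso_iff _)).symm
  rw [hiff]
  let A := (EtBC.pullD g).map ((β f).app ((HomotopyCategory.quotient _ up).obj I))
  let B := (DCoh.RpushEt X' f').map (resMap g' φ)
  let C := (EtCoh.pull g).mapDerivedCategoryFactorsh.hom.app
    (((EtCoh.push f).mapHomotopyCategory up).obj ((HomotopyCategory.quotient _ up).obj I))
  let E := (β f').app ((HomotopyCategory.quotient _ up).obj J)
  haveI : IsIso A := inferInstance
  haveI : IsIso (resMap g' φ) := IsIso.comp_isIso' inferInstance hφ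
  haveI : IsIso B := Functor.map_isIso _ _
  haveI : IsIso C := inferInstance
  haveI : IsIso E := hβ'
  constructor <;> intro h
  · haveI : IsIso E := hβ'
    have : IsIso (C ≫ DerivedCategory.Qh.map ((HomotopyCategory.quotient _ up).map (cxMap f g f' g' w φ)) ≫ E) :=
      hfac ▸ (inferInstance : IsIso (A ≫ EtBC.bcMap f g f' g' w (adj₀ g) L ≫ B))
    have := IsIso.of_isIso_comp_left C
      (DerivedCategory.Qh.map ((HomotopyCategory.quotient _ up).map (cxMap f g f' g' w φ)) ≫ E)
    exact @IsIso.of_isIso_comp_right _ _ _ _ _ _ E hβ' this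
  · haveI : IsIso E := hβ'
    have : IsIso (A ≫ EtBC.bcMap f g f' g' w (adj₀ g) L ≫ B) :=
      hfac.symm ▸ (IsIso.comp_isIso' inferInstance (IsIso.comp_isIso' h hβ') : IsIso (C ≫
        DerivedCategory.Qh.map ((HomotopyCategory.quotient _ up).map (cxMap f g f' g' w φ)) ≫ E))
    have := IsIso.of_isIso_comp_left A (EtBC.bcMap f g f' g' w (adj₀ g) L ≫ B)
    exact IsIso.of_isIso_comp_right _ B

/-- Computation of the base change morphism by K-injective complexes. -/
theorem isIso_bcMap_iff (adj : EtBC.pullD g ⊣ DCoh.RpushEt S' g) {K : DCoh.DEt X}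
    (I : CochainComplex (EtCoh.Ab X) ℤ) [I.IsKInjective]
    (eK : DerivedCategory.Qh.obj ((HomotopyCategory.quotient _ up).obj I) ≅ K)
    (J : CochainComplex (EtCoh.Ab X') ℤ) [J.IsKInjective]
    (φ : ((EtCoh.pull g').mapHomologicalComplex up).obj I ⟶ J) [QuasiIso φ] :
    IsIso (EtBC.bcMap f g f' g' w adj K) ↔ QuasiIso (cxMap f g f' g' w φ) :=
  isIso_bcMap_iff' f g f' g' w adj I (SiteCohomology.EtPushComp.isIso_unit_app f I) eK J
    (SiteCohomology.EtPushComp.isIso_unit_app f' J) φ

end Square

end Groth.EtaleBase.BCD
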