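import Mathlib.Algebra.Homology.ShortComplex.Ab
import Mathlib.Algebra.Homology.QuasiIso
import Mathlib.Algebra.Category.Grp.EpiMono
import Mathlib.Order.Directed

/-!
A filtered colimit of quasi-isomorphisms of complexes of abelian groups, in elementary form.
-/

set_option autoImplicit false

universe u w

open CategoryTheory CategoryTheory.Limits

namespace Groth.EtaleBase.BCD

local notation "up" => ComplexShape.up ℤ

section ShortComplex

variable {S S' : ShortComplex AddCommGrpCat.{u}} (φ : S ⟶ S')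

/-- Elementary criterion for quasi-isomorphisms of short complexes of abelian groups. -/
theorem ab_quasiIso_iff :
    ShortComplex.QuasiIso φ ↔
      (∀ z, S.g z = 0 → (∃ w, S'.f w = φ.τ₂ z) → ∃ v, S.f v = z) ∧
        ∀ y, S'.g y = 0 → ∃ z, S.g z = 0 ∧ ∃ w, φ.τ₂ z + S'.f w = y := by
  rw [ShortComplex.quasiIso_iff_isIso_leftHomologyMap' φ S.abLeftHomologyData S'.abLeftHomologyData,
    ConcreteCategory.isIso_iff_bijective]
  let H := ShortComplex.leftHomologyMap' φ S.abLeftHomologyData S'.abLeftHomologyData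
  let K := ShortComplex.cyclesMap' φ S.abLeftHomologyData S'.abLeftHomologyData
  let π := fun z : AddMonoidHom.ker S.g.hom => QuotientAddGroup.mk' (AddMonoidHom.range S.abToCycles) z
  let π' := fun z : AddMonoidHom.ker S'.g.hom => QuotientAddGroup.mk' (AddMonoidHom.range S'.abToCycles) z
  have hK : ∀ z : AddMonoidHom.ker S.g.hom, (K z : AddMonoidHom.ker S'.g.hom).1 = φ.τ₂ z.1 := fun z => by
    show (K ≫ S'.abLeftHomologyData.i) z = (S.abLeftHomologyData.i ≫ φ.τ₂) z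
    rw [ShortComplex.cyclesMap'_i]
  have hH : ∀ z : AddMonoidHom.ker S.g.hom, H (π z) = π' (K z) := fun z =>
    ConcreteCategory.congr_hom (ShortComplex.leftHomologyπ_naturality' φ S.abLeftHomologyData S'.abLeftHomologyData) z
  constructor
  · rintro ⟨hinj, hsurj⟩
    refine ⟨fun z hz ⟨w, hw⟩ => ?_, fun y hy => ?_⟩
    · have h1 : π' (K ⟨z, hz⟩) = 0 :=
        (QuotientAddGroup.eq_zero_iff _).2 ⟨w, Subtype.ext (hw.trans (hK ⟨z, hz⟩).symm)⟩
      obtain ⟨v, hv⟩ := (QuotientAddGroup.eq_zero_iff _).1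
        ((injective_iff_map_eq_zero H.hom).1 hinj (π ⟨z, hz⟩) ((hH _).trans h1))
      exact ⟨v, congrArg Subtype.val hv⟩
    · obtain ⟨q, hq⟩ := hsurj (π' ⟨y, hy⟩)
      obtain ⟨z, rfl⟩ := QuotientAddGroup.mk'_surjective _ q
      obtain ⟨w, hw⟩ := QuotientAddGroup.eq.1 ((hH z).symm.trans hq)
      refine ⟨z.1, z.2, w, ?_⟩
      have e : S'.f w = -(φ.τ₂ z.1) + y := (congrArg Subtype.val hw).trans (by rw [← hK z]; rfl)
      rw [e, add_neg_cancel_left]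
  · rintro ⟨hinj, hsurj⟩
    refine ⟨(injective_iff_map_eq_zero H.hom).2 fun q hq => ?_, fun q => ?_⟩
    · obtain ⟨z, rfl⟩ := QuotientAddGroup.mk'_surjective _ q
      obtain ⟨w, hw⟩ := (QuotientAddGroup.eq_zero_iff _).1 ((hH z).symm.trans hq)
      obtain ⟨v, hv⟩ := hinj z.1 z.2 ⟨w, (congrArg Subtype.val hw).trans (hK z)⟩
      exact (QuotientAddGroup.eq_zero_iff _).2 ⟨v, Subtype.ext hv⟩
    · obtain ⟨y, rfl⟩ := QuotientAddGroup.mk'_surjective _ q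
      obtain ⟨z, hz, w, hw⟩ := hsurj y.1 y.2
      refine ⟨π ⟨z, hz⟩, (hH _).trans (QuotientAddGroup.eq.2 ⟨w, Subtype.ext ?_⟩)⟩
      show S'.f w = -((K ⟨z, hz⟩).1) + y.1
      rw [hK, ← hw, neg_add_cancel_left]

end ShortComplex

/-- Elementary criterion for quasi-isomorphisms of complexes of abelian groups. -/
theorem ab_quasiIso_cx_iff {A B : CochainComplex AddCommGrpCat.{u} ℤ} (φ : A ⟶ B) :
    QuasiIso φ ↔ ∀ n : ℤ,
      (∀ z, A.d n (n + 1) z = 0 → (∃ w, B.d (n - 1) n w = φ.f n z) → ∃ v, A.d (n - 1) n v = z) ∧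
        ∀ y, B.d n (n + 1) y = 0 →
          ∃ z, A.d n (n + 1) z = 0 ∧ ∃ w, φ.f n z + B.d (n - 1) n w = y := by
  rw [quasiIso_iff]
  refine forall_congr' fun n => ?_
  rw [quasiIsoAt_iff' φ (n - 1) n (n + 1) (by simp) (by simp), ab_quasiIso_iff]
  rfl

variable {ι : Type w} [Preorder ι] [IsDirectedOrder ι]
  {A B : ι → CochainComplex AddCommGrpCat.{u} ℤ} {A' B' : CochainComplex AddCommGrpCat.{u} ℤ}
  (t : ∀ ⦃i j⦄, i ≤ j → (A i ⟶ A j)) (s : ∀ ⦃i j⦄, i ≤ j → (B i ⟶ B j))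
  (la : ∀ i, A i ⟶ A') (lb : ∀ i, B i ⟶ B') (m : ∀ i, A i ⟶ B i) (m' : A' ⟶ B')

/-- A colimit of quasi-isomorphisms is a quasi-isomorphism. -/
theorem quasiIso_of_colimit
    (hts : ∀ ⦃i j⦄ (h : i ≤ j) n x, (m j).f n ((t h).f n x) = (s h).f n ((m i).f n x))
    (htl : ∀ ⦃i j⦄ (h : i ≤ j) n x, (la j).f n ((t h).f n x) = (la i).f n x)
    (hsl : ∀ ⦃i j⦄ (h : i ≤ j) n x, (lb j).f n ((s h).f n x) = (lb i).f n x)
    (hm : ∀ i n x, m'.f n ((la i).f n x) = (lb i).f n ((m i).f n x))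
    (sa : ∀ n x, ∃ i y, (la i).f n y = x) (sb : ∀ n x, ∃ i y, (lb i).f n y = x)
    (za : ∀ n i y, (la i).f n y = 0 → ∃ j, ∃ h : i ≤ j, (t h).f n y = 0)
    (zb : ∀ n i y, (lb i).f n y = 0 → ∃ j, ∃ h : i ≤ j, (s h).f n y = 0)
    (hq : ∀ i, QuasiIso (m i)) : QuasiIso m' := by
  have hd : ∀ {K L : CochainComplex AddCommGrpCat.{u} ℤ} (φ : K ⟶ L) (p q : ℤ) x,
      L.d p q (φ.f p x) = φ.f q (K.d p q x) := fun φ p q x =>
    ConcreteCategory.congr_hom (φ.comm p q) x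
  rw [ab_quasiIso_cx_iff]
  intro n
  constructor
  · rintro z hz ⟨w, hw⟩
    obtain ⟨i, zi, rfl⟩ := sa n z
    obtain ⟨j, wj, rfl⟩ := sb (n - 1) w
    rw [hd] at hz
    obtain ⟨k₁, h₁, hk₁⟩ := za (n + 1) i _ hz
    obtain ⟨k, hk1, hkj⟩ := exists_ge_ge k₁ j
    let zk := (t hk1).f n ((t h₁).f n zi)
    have hzk : (A k).d n (n + 1) zk = 0 := by rw [hd, hd, hk₁, map_zero]
    let wk := (s hkj).f (n - 1) wj
    have hD : (lb k).f n ((m k).f n zk - (B k).d (n - 1) n wk) = 0 := by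
      rw [map_sub, ← hm, htl, htl, ← hd, hsl, hw, sub_self]
    obtain ⟨k', hkk', hk'⟩ := zb n k _ hD
    rw [map_sub, sub_eq_zero, ← hts, ← hd] at hk'
    obtain ⟨v, hv⟩ := ((ab_quasiIso_cx_iff (m k')).1 (hq k') n).1 ((t hkk').f n zk)
      (by rw [hd, hzk, map_zero]) ⟨_, hk'.symm⟩
    exact ⟨(la k').f (n - 1) v, by rw [hd, hv, htl, htl, htl]⟩
  · intro y hy
    obtain ⟨j, yj, rfl⟩ := sb n y
    rw [hd] at hy
    obtain ⟨k, hjk, hk⟩ := zb (n + 1) j _ hy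
    obtain ⟨z, hz, w, hw⟩ := ((ab_quasiIso_cx_iff (m k)).1 (hq k) n).2 ((s hjk).f n yj) (by rw [hd, hk])
    refine ⟨(la k).f n z, by rw [hd, hz, map_zero], (lb k).f (n - 1) w, ?_⟩
    rw [hm, hd, ← map_add, hw, hsl]

end Groth.EtaleBase.BCD
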