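import Groth.Agent.EtaleBase.BCD.Stalk

/-!
Vertical composition and étale locality of the derived base change morphism.
-/

set_option autoImplicit false

universe u

open CategoryTheory CategoryTheory.Limits AlgebraicGeometry

namespace Groth.EtaleBase.BCD

attribute [local instance] HasDerivedCategory.standard pull_preservesFiniteLimits

local notation "up" => ComplexShape.up ℤ

open EtLimit

lemma qi_comp {C : Type*} [Category* C] [Abelian C] {K L M : CochainComplex C ℤ} {φ : K ⟶ L} {ψ : L ⟶ M}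
    (h : QuasiIso φ) (h' : QuasiIso ψ) : QuasiIso (φ ≫ ψ) := inferInstance

lemma qi_of_isIso {C : Type*} [Category* C] [Abelian C] {K L : CochainComplex C ℤ} {φ : K ⟶ L}
    (h : IsIso φ) : QuasiIso φ := inferInstance

lemma qi_of_comp {C : Type*} [Category* C] [Abelian C] {K L M : CochainComplex C ℤ} {φ : K ⟶ L} {ψ : L ⟶ M}
    (h : QuasiIso (φ ≫ ψ)) (h' : IsIso ψ) : QuasiIso φ := quasiIso_of_comp_right φ ψ

/-- Transport of a resolution to an object of the derived category. -/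
noncomputable def resIso {Y T : Scheme.{u}} (e : Y ⟶ T) [PreservesFiniteLimits (EtCoh.pull e)]
    {I : CochainComplex (EtCoh.Ab T) ℤ} {J : CochainComplex (EtCoh.Ab Y) ℤ}
    (φ : ((EtCoh.pull e).mapHomologicalComplex up).obj I ⟶ J) [QuasiIso φ] {K : DCoh.DEt T}
    (eK : DerivedCategory.Qh.obj ((HomotopyCategory.quotient _ up).obj I) ≅ K) :
    DerivedCategory.Qh.obj ((HomotopyCategory.quotient _ up).obj J) ≅ (EtBC.pullD e).obj K :=
  haveI := Localization.inverts DerivedCategory.Qh (HomotopyCategory.quasiIso (EtCoh.Ab Y) up)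
    ((HomotopyCategory.quotient _ up).map φ)
    ((HomotopyCategory.quotient_map_mem_quasiIso_iff φ).2 ((HomologicalComplex.mem_quasiIso_iff φ).2 inferInstance))
  (asIso (DerivedCategory.Qh.map ((HomotopyCategory.quotient _ up).map φ))).symm ≪≫
    ((EtCoh.pull e).mapDerivedCategoryFactorsh.app ((HomotopyCategory.quotient _ up).obj I)).symm ≪≫
    (EtBC.pullD e).mapIso eK

/-- Resolution by a K-injective complex. -/
lemma exists_resolution {Y T : Scheme.{u}} (e : Y ⟶ T) (I : CochainComplex (EtCoh.Ab T) ℤ) :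
    ∃ (J : CochainComplex (EtCoh.Ab Y) ℤ) (φ : ((EtCoh.pull e).mapHomologicalComplex up).obj I ⟶ J),
      J.IsKInjective ∧ QuasiIso φ :=
  SiteCohomology.EtPushComp.enoughKInj Y _

/-- The base change morphism of a pasted square. -/
theorem isIso_bcMap_vcomp {X S Y T W Z : Scheme.{u}} (f : X ⟶ S) (g : T ⟶ S) (h : Y ⟶ X) (e : Y ⟶ T)
    (w : e ≫ g = h ≫ f) (i : W ⟶ X) (j : Z ⟶ W) (k : Z ⟶ Y) (w' : k ≫ h = j ≫ i)
    (w'' : (k ≫ e) ≫ g = j ≫ (i ≫ f))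
    [PreservesFiniteLimits (EtCoh.pull f)] [PreservesFiniteLimits (EtCoh.pull i)]
    [PreservesFiniteLimits (EtCoh.pull (i ≫ f))] [PreservesFiniteLimits (EtCoh.pull e)]
    [PreservesFiniteLimits (EtCoh.pull k)] [PreservesFiniteLimits (EtCoh.pull (k ≫ e))]
    [DCoh.HasRpushEt T g] [DCoh.HasRpushEt Y h] [DCoh.HasRpushEt Z j] [DCoh.HasRpushEt X f]
    [DCoh.HasRpushEt W i] [DCoh.HasRpushEt W (i ≫ f)]
    (adj₁ : EtBC.pullD f ⊣ DCoh.RpushEt X f) (adj₂ : EtBC.pullD i ⊣ DCoh.RpushEt W i)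
    (adj₃ : EtBC.pullD (i ≫ f) ⊣ DCoh.RpushEt W (i ≫ f)) (K : DCoh.DEt T)
    (h1 : IsIso (EtBC.bcMap g f h e w adj₁ K))
    (h2 : IsIso (EtBC.bcMap h i j k w' adj₂ ((EtBC.pullD e).obj K))) :
    IsIso (EtBC.bcMap g (i ≫ f) j (k ≫ e) w'' adj₃ K) := by
  obtain ⟨I, hI, ⟨eK⟩⟩ := SiteCohomology.EtPushComp.exists_rep K
  obtain ⟨J, φ, hJ, hφ⟩ := exists_resolution e I
  obtain ⟨L, ψ, hL, hψ⟩ := exists_resolution k J
  haveI := quasiIso_cxComp e k φ ψ
  have q1 := (isIso_bcMap_iff g f h e w adj₁ I eK J φ).1 h1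
  have q2 := (isIso_bcMap_iff h i j k w' adj₂ J (resIso e φ eK) L ψ).1 h2
  refine (isIso_bcMap_iff g (i ≫ f) j (k ≫ e) w'' adj₃ I eK L (cxComp e k φ ψ)).2 ?_
  refine (quasiIso_cxMap_iff g (i ≫ f) j (k ≫ e) w'' (cxComp e k φ ψ)).2 fun s => ?_
  rw [← stCx_comp g f h e w j i k w' w'' φ ψ (geomPoint s)]
  exact qi_comp (quasiIso_stCx g f h e w (geomPoint s ≫ i) φ q1) (quasiIso_stCx h i j k w' (geomPoint s) ψ q2)

lemma quasiIso_stCx_congr {X S S' X' : Scheme.{u}} (f : X ⟶ S) {g₁ g₂ : S' ⟶ S} (f' : X' ⟶ S')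
    {e₁ e₂ : X' ⟶ X} (hg : g₁ = g₂) (he : e₁ = e₂) (w₁ : e₁ ≫ f = f' ≫ g₁) (w₂ : e₂ ≫ f = f' ≫ g₂)
    {Ω : Type u} [Field Ω] [IsSepClosed Ω] (ξ : Spec (CommRingCat.of Ω) ⟶ S')
    {I : CochainComplex (EtCoh.Ab X) ℤ} {J : CochainComplex (EtCoh.Ab X') ℤ}
    (φ₁ : ((EtCoh.pull e₁).mapHomologicalComplex up).obj I ⟶ J)
    (φ₂ : ((EtCoh.pull e₂).mapHomologicalComplex up).obj I ⟶ J)
    (hφ : φ₁ = eqToHom (by rw [he]) ≫ φ₂) :
    QuasiIso (stCx f g₁ f' e₁ w₁ ξ φ₁) ↔ QuasiIso (stCx f g₂ f' e₂ w₂ ξ φ₂) := by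
  subst hg he
  rw [eqToHom_refl, Category.id_comp] at hφ
  subst hφ
  exact Iff.rfl

section Local

variable {X S Y T : Scheme.{u}} (f : X ⟶ S) (g : T ⟶ S) (h : Y ⟶ X) (e : Y ⟶ T) (c : IsPullback e h g f)

include c in
/-- The comparison is a quasi-isomorphism at a point with a local witness. -/
theorem quasiIso_stCx_of_local {U V Ti Yi : Scheme.{u}} (u : U ⟶ X) [AlgebraicGeometry.Etale u]
    (v : V ⟶ S) [AlgebraicGeometry.Etale v] (a : U ⟶ V) (ha : a ≫ v = u ≫ f)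
    (gi : Ti ⟶ V) (ti : Ti ⟶ T) (cT : IsPullback ti gi g v) (hi : Yi ⟶ U) (ei : Yi ⟶ Ti)
    (cY : IsPullback ei hi gi a)
    [DCoh.HasRpushEt Ti gi] [DCoh.HasRpushEt Yi hi] [DCoh.HasRpushEt U a]
    (adji : EtBC.pullD a ⊣ DCoh.RpushEt U a) {K : DCoh.DEt T}
    (hloc : IsIso (EtBC.bcMap gi a hi ei cY.w adji ((EtBC.pullD ti).obj K)))
    {I : CochainComplex (EtCoh.Ab T) ℤ} [I.IsKInjective]
    (eK : DerivedCategory.Qh.obj ((HomotopyCategory.quotient _ up).obj I) ≅ K)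
    {J : CochainComplex (EtCoh.Ab Y) ℤ} [J.IsKInjective]
    (φ : ((EtCoh.pull e).mapHomologicalComplex up).obj I ⟶ J) [QuasiIso φ]
    {Ω : Type u} [Field Ω] [IsSepClosed Ω] (ξ : Spec (CommRingCat.of Ω) ⟶ U) :
    QuasiIso (stCx g f h e c.w (ξ ≫ u) φ) := by
  have big : IsPullback (ei ≫ ti) hi g (u ≫ f) := ha ▸ cY.paste_horiz cT
  let y : Yi ⟶ Y := c.lift (ei ≫ ti) (hi ≫ u) (big.w.trans (Category.assoc _ _ _).symm)
  have hy : y ≫ e = ei ≫ ti := c.lift_fst _ _ _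
  have hy2 : y ≫ h = hi ≫ u := c.lift_snd _ _ _
  have cA : IsPullback y hi h u := IsPullback.of_right (hy.symm ▸ big) hy2 c
  haveI : AlgebraicGeometry.Etale ti :=
    MorphismProperty.of_isPullback (P := @AlgebraicGeometry.Etale) cT.flip inferInstance
  haveI : AlgebraicGeometry.Etale y :=
    MorphismProperty.of_isPullback (P := @AlgebraicGeometry.Etale) cA.flip inferInstance
  let It := ((EtCoh.pull ti).mapHomologicalComplex up).obj I
  let Jy := ((EtCoh.pull y).mapHomologicalComplex up).obj J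
  haveI : CochainComplex.IsKInjective It := isKInjective_pull_etale ti I
  haveI : CochainComplex.IsKInjective Jy := isKInjective_pull_etale y J
  let ν : ((EtCoh.pull ei).mapHomologicalComplex up).obj It ⟶
      ((EtCoh.pull (ei ≫ ti)).mapHomologicalComplex up).obj I :=
    (NatTrans.mapHomologicalComplex (EtCore.pullComp ei ti).inv up).app I
  let χ := cxComp e y φ (𝟙 Jy)
  let ε : ((EtCoh.pull (ei ≫ ti)).mapHomologicalComplex up).obj I ⟶
      ((EtCoh.pull (y ≫ e)).mapHomologicalComplex up).obj I := eqToHom (by rw [hy])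
  haveI : QuasiIso ν :=
    haveI : ∀ n, IsIso (ν.f n) := fun n => inferInstanceAs (IsIso ((EtCore.pullComp ei ti).inv.app _))
    haveI : IsIso ν := HomologicalComplex.Hom.isIso_of_components _
    inferInstance
  haveI : QuasiIso χ := quasiIso_cxComp e y φ (𝟙 Jy)
  let φi : ((EtCoh.pull ei).mapHomologicalComplex up).obj It ⟶ Jy := ν ≫ ε ≫ χ
  have hcomp : cxComp ti ei (𝟙 It) φi = ε ≫ χ := by
    refine HomologicalComplex.hom_ext _ _ fun n => ?_
    refine (cxComp_f ti ei (𝟙 It) φi n).trans ?_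
    refine (congrArg (fun z => (EtCore.pullComp ei ti).hom.app (I.X n) ≫ z ≫ φi.f n)
      ((EtCoh.pull ei).map_id _)).trans ?_
    refine (congrArg ((EtCore.pullComp ei ti).hom.app (I.X n) ≫ ·) (Category.id_comp _)).trans ?_
    exact (EtCore.pullComp ei ti).hom_inv_id_app_assoc _ _
  have qloc := (isIso_bcMap_iff gi a hi ei cY.w adji It (resIso ti (𝟙 It) eK) Jy φi).1 hloc
  have w₂ : (ei ≫ ti) ≫ g = hi ≫ a ≫ v := big.w.trans (congrArg (hi ≫ ·) ha.symm)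
  have w₁ : (y ≫ e) ≫ g = hi ≫ u ≫ f := (congrArg (· ≫ g) hy).trans big.w
  have k₁ := isIso_stCx_etale (ξ ≫ a) cT (𝟙 It)
  have k₂ := quasiIso_stCx gi a hi ei cY.w ξ φi qloc
  have q₂ : QuasiIso (stCx g (a ≫ v) hi (ei ≫ ti) w₂ ξ (cxComp ti ei (𝟙 It) φi)) := by
    rw [← stCx_comp g v gi ti cT.w hi a ei cY.w w₂ (𝟙 It) φi ξ]
    exact qi_comp (qi_of_isIso k₁) k₂
  have q₁ : QuasiIso (stCx g (u ≫ f) hi (y ≫ e) w₁ ξ χ) :=
    (quasiIso_stCx_congr g hi ha hy.symm w₂ w₁ ξ _ χ hcomp).1 q₂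
  rw [← stCx_comp g f h e c.w hi u y cA.w w₁ φ (𝟙 Jy) ξ] at q₁
  exact qi_of_comp q₁ (isIso_stCx_etale ξ cA (𝟙 Jy))

include c in
/-- The base change morphism can be checked étale locally. -/
theorem isIso_bcMap_of_etale_local [PreservesFiniteLimits (EtCoh.pull e)] [PreservesFiniteLimits (EtCoh.pull f)]
    [DCoh.HasRpushEt T g] [DCoh.HasRpushEt Y h] [DCoh.HasRpushEt X f] (adj : EtBC.pullD f ⊣ DCoh.RpushEt X f)
    (K : DCoh.DEt T)
    {ι : Type u} (U : ι → X.Etale) (hU : EtCoh.Covers U) (V : ι → S.Etale)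
    (a : ∀ i, (U i).left ⟶ (V i).left) (ha : ∀ i, a i ≫ (V i).hom = (U i).hom ≫ f)
    (Ti Yi : ι → Scheme.{u}) (gi : ∀ i, Ti i ⟶ (V i).left) (ti : ∀ i, Ti i ⟶ T)
    (cT : ∀ i, IsPullback (ti i) (gi i) g (V i).hom)
    (hi : ∀ i, Yi i ⟶ (U i).left) (ei : ∀ i, Yi i ⟶ Ti i)
    (cY : ∀ i, IsPullback (ei i) (hi i) (gi i) (a i))
    [∀ i, PreservesFiniteLimits (EtCoh.pull (ei i))] [∀ i, PreservesFiniteLimits (EtCoh.pull (a i))]
    [∀ i, PreservesFiniteLimits (EtCoh.pull (ti i))]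
    [∀ i, DCoh.HasRpushEt (Ti i) (gi i)] [∀ i, DCoh.HasRpushEt (Yi i) (hi i)]
    [∀ i, DCoh.HasRpushEt (U i).left (a i)]
    (adji : ∀ i, EtBC.pullD (a i) ⊣ DCoh.RpushEt (U i).left (a i))
    (hloc : ∀ i, IsIso (EtBC.bcMap (gi i) (a i) (hi i) (ei i) (cY i).w (adji i) ((EtBC.pullD (ti i)).obj K))) :
    IsIso (EtBC.bcMap g f h e c.w adj K) := by
  obtain ⟨I, hI, ⟨eK⟩⟩ := SiteCohomology.EtPushComp.exists_rep K
  obtain ⟨J, φ, hJ, hφ⟩ := exists_resolution e I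
  refine (isIso_bcMap_iff g f h e c.w adj I eK J φ).2 ((quasiIso_cxMap_iff g f h e c.w φ).2 fun s => ?_)
  obtain ⟨i, v, hv⟩ := hU s
  subst hv
  obtain ⟨t, -⟩ := exists_geomPoint_lift (U i) v
  haveI : AlgebraicGeometry.Etale (U i).hom := (U i).prop
  haveI : AlgebraicGeometry.Etale (V i).hom := (V i).prop
  have hb := quasiIso_stCx_of_local (U := (U i).left) (V := (V i).left) f g h e c (U i).hom (V i).hom (a i) (ha i)
    (gi i) (ti i) (cT i) (hi i) (ei i) (cY i) (adji i) (hloc i) eK φ t.left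
  have key : ∀ (η : Spec (CommRingCat.of _) ⟶ X) (_ : t.left ≫ (U i).hom = η),
      QuasiIso (stCx g f h e c.w η φ) := fun η hη => hη ▸ hb
  exact key _ (Over.w t)

end Local

end Groth.EtaleBase.BCD
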