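import Groth.Agent.EtaleBase.BCD.LimitStalk
import Groth.Agent.EtaleBase.BCD.Comp
import Groth.Agent.EtaleBase.BCD.Acyclic
import Groth.Agent.EtaleBase.BCD.Chase

/-!
The base change morphism passes to limits of systems of squares.
-/

set_option autoImplicit false

universe u

open CategoryTheory CategoryTheory.Limits AlgebraicGeometry Opposite

namespace Groth.EtaleBase.BCD

open EtLimit

attribute [local instance] HasDerivedCategory.standard pull_preservesFiniteLimits

local notation "up" => ComplexShape.up ℤ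

lemma isStrictlyGE_map {C D : Type*} [Category* C] [Category* D] [Abelian C] [Abelian D] (F : C ⥤ D)
    [F.PreservesZeroMorphisms] (K : CochainComplex C ℤ) (n : ℤ) [K.IsStrictlyGE n] :
    CochainComplex.IsStrictlyGE ((F.mapHomologicalComplex up).obj K) n :=
  (CochainComplex.isStrictlyGE_iff _ n).2 fun i hi => F.map_isZero (K.isZero_of_isStrictlyGE n i hi)

variable {ι : Type u} [Preorder ι] [Nonempty ι] [IsDirectedOrder ι] {Xs Ss Ts Ys : ιᵒᵖ ⥤ Scheme.{u}}
  (fN : Xs ⟶ Ss) (gN : Ts ⟶ Ss) (hN : Ys ⟶ Xs) (eN : Ys ⟶ Ts)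

/-- An inverse image functor on systems of sheaves with its comparison morphisms. -/
structure PullSystem where
  /-- The functor. -/
  F : AbSys Ts ⥤ AbSys Ys
  zero : F.PreservesZeroMorphisms
  /-- The comparison on a stage. -/
  α : ∀ (i : ι) (M : AbSys Ts),
    (EtCoh.pull (eN.app (op i))).obj ((res Ts i).obj M) ⟶ (res Ys i).obj (F.obj M)
  isIso_α : ∀ i M, IsIso (α i M)
  nat : ∀ (i : ι) {M N : AbSys Ts} (a : M ⟶ N),
    α i M ≫ (res Ys i).map (F.map a) = (EtCoh.pull (eN.app (op i))).map ((res Ts i).map a) ≫ α i N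
  trans : ∀ (M : AbSys Ts) {i j : ι} (h : i ≤ j),
    (trC M h).comp (CHom.mk (eN.app (op j)) (α j M)) = (CHom.mk (eN.app (op i)) (α i M)).comp (trC (F.obj M) h)
  desc : ∀ (cT : Cone Ts) (cY : Cone Ys) (e : cY.pt ⟶ cT.pt)
    (_ : ∀ j, e ≫ proj Ts cT j = proj Ys cY j ≫ eN.app (op j)),
    ∃ d : ∀ M : AbSys Ts, (EtCoh.pull e).obj ((pullSys Ts cT).obj M) ⟶ (pullSys Ys cY).obj (F.obj M),
      (∀ (M N : AbSys Ts) (a : M ⟶ N),
        d M ≫ (pullSys Ys cY).map (F.map a) = (EtCoh.pull e).map ((pullSys Ts cT).map a) ≫ d N) ∧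
      ∀ M j, (coneC cT M j).comp (CHom.mk e (d M)) =
        (CHom.mk (eN.app (op j)) (α j M)).comp (coneC cY (F.obj M) j)

attribute [instance] PullSystem.zero

lemma eta_nat (i : ι) {M N : AbSys Ts} (a : M ⟶ N) :
    (eta eN M i).α ≫ (res Ys i).map ((ssF eN).map a) =
      (EtCoh.pull (eN.app (op i))).map ((res Ts i).map a) ≫ (eta eN N i).α :=
  (eq_of_heq (CHom.mk.inj (eta_natural eN a i)).2 : _)

lemma isIso_eta (i : ι) (M : AbSys Ts) : IsIso (eta eN M i).α :=
  inferInstanceAs (IsIso (𝟙 _ ≫ ssProj eN M i))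

theorem nonempty_pullSystem : Nonempty (PullSystem eN) :=
  ⟨{ F := ssF eN
     zero := ssF_preservesZeroMorphisms eN
     α := fun i M => (eta eN M i).α
     isIso_α := isIso_eta eN
     nat := fun i => eta_nat eN i
     trans := fun M _ _ h => trC_eta eN M h
     desc := fun cT cY e he => ⟨fun M => (descN eN cT cY e he).app M,
       fun _ _ a => ((descN eN cT cY e he).naturality a).symm, coneC_descN eN cT cY e he⟩ }⟩

variable {eN} (P : PullSystem eN)

/-- The inverse image of a complex of systems. -/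
noncomputable abbrev ssCx (M : CochainComplex (AbSys Ts) ℤ) : CochainComplex (AbSys Ys) ℤ :=
  (P.F.mapHomologicalComplex up).obj M

/-- The inverse image of a system, degreewise, before resolving. -/
noncomputable def nuCx (M : CochainComplex (AbSys Ts) ℤ) (i : ι) :
    ((EtCoh.pull (eN.app (op i))).mapHomologicalComplex up).obj (resX M i) ⟶ resX (ssCx P M) i where
  f p := P.α i (M.X p)
  comm' p q _ := P.nat i (M.d p q)

lemma isIso_nuCx (M : CochainComplex (AbSys Ts) ℤ) (i : ι) : IsIso (nuCx P M i) := by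
  haveI : ∀ p, IsIso ((nuCx P M i).f p) := fun p => P.isIso_α i (M.X p)
  exact HomologicalComplex.Hom.isIso_of_components _

/-- The comparison on a stage. -/
noncomputable def thetaCx {M : CochainComplex (AbSys Ts) ℤ} {M' : CochainComplex (AbSys Ys) ℤ}
    (r : ssCx P M ⟶ M') (i : ι) :
    ((EtCoh.pull (eN.app (op i))).mapHomologicalComplex up).obj (resX M i) ⟶ resX M' i :=
  nuCx P M i ≫ ((res Ys i).mapHomologicalComplex up).map r

lemma trC_theta {M : CochainComplex (AbSys Ts) ℤ} {M' : CochainComplex (AbSys Ys) ℤ}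
    (r : ssCx P M ⟶ M') {i j : ι} (h : i ≤ j) (p : ℤ) :
    (trC (M.X p) h).comp (CHom.mk (eN.app (op j)) ((thetaCx P r j).f p)) =
      (CHom.mk (eN.app (op i)) ((thetaCx P r i).f p)).comp (trC (M'.X p) h) := by
  show (trC (M.X p) h).comp ((CHom.mk _ (P.α j (M.X p))).post ((res Ys j).map (r.f p))) =
    ((CHom.mk _ (P.α i (M.X p))).post ((res Ys i).map (r.f p))).comp (trC (M'.X p) h)
  rw [← CHom.comp_post, P.trans (M.X p) h, CHom.comp_post, CHom.post_comp]
  exact congrArg (CHom.comp _) (trC_natural (r.f p) h)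

lemma exists_phiCx (cT : Cone Ts) (cY : Cone Ys) (e : cY.pt ⟶ cT.pt)
    (he : ∀ j, e ≫ proj Ts cT j = proj Ys cY j ≫ eN.app (op j))
    {M : CochainComplex (AbSys Ts) ℤ} {M' : CochainComplex (AbSys Ys) ℤ} (r : ssCx P M ⟶ M') :
    ∃ φ : ((EtCoh.pull e).mapHomologicalComplex up).obj (((pullSys Ts cT).mapHomologicalComplex up).obj M) ⟶
        ((pullSys Ys cY).mapHomologicalComplex up).obj M',
      ∀ j p, (coneC cT (M.X p) j).comp (CHom.mk e (φ.f p)) =
        (CHom.mk (eN.app (op j)) ((thetaCx P r j).f p)).comp (coneC cY (M'.X p) j) := by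
  obtain ⟨d, hd, hd'⟩ := P.desc cT cY e he
  let δ : ((EtCoh.pull e).mapHomologicalComplex up).obj (((pullSys Ts cT).mapHomologicalComplex up).obj M) ⟶
      ((pullSys Ys cY).mapHomologicalComplex up).obj (ssCx P M) :=
    { f := fun p => d (M.X p)
      comm' := fun p q _ => hd _ _ (M.d p q) }
  refine ⟨δ ≫ ((pullSys Ys cY).mapHomologicalComplex up).map r, fun j p => ?_⟩
  show (coneC cT (M.X p) j).comp ((CHom.mk e (d (M.X p))).post ((pullSys Ys cY).map (r.f p))) =
    ((CHom.mk _ (P.α j (M.X p))).post ((res Ys j).map (r.f p))).comp (coneC cY (M'.X p) j)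
  rw [← CHom.comp_post, hd' (M.X p) j, CHom.comp_post, CHom.post_comp]
  exact congrArg (CHom.comp _) (coneC_natural cY (r.f p) j)

section Stalk

variable [∀ (p q : ιᵒᵖ) (m : p ⟶ q), IsAffineHom (Ts.map m)]
  [∀ (p q : ιᵒᵖ) (m : p ⟶ q), IsAffineHom (Ss.map m)]
  [∀ (p q : ιᵒᵖ) (m : p ⟶ q), IsAffineHom (Ys.map m)]
  [∀ (p q : ιᵒᵖ) (m : p ⟶ q), IsAffineHom (Xs.map m)]
  [∀ a : ιᵒᵖ, QuasiCompact (gN.app a)] [∀ a : ιᵒᵖ, QuasiSeparated (gN.app a)]
  [∀ a : ιᵒᵖ, QuasiCompact (hN.app a)] [∀ a : ιᵒᵖ, QuasiSeparated (hN.app a)]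
  (sq : ∀ i : ι, eN.app (op i) ≫ gN.app (op i) = hN.app (op i) ≫ fN.app (op i))
  (cX : Cone Xs) (hcX : IsLimit cX) (cS : Cone Ss) (hcS : IsLimit cS)
  (cT : Cone Ts) (hcT : IsLimit cT) (cY : Cone Ys) (hcY : IsLimit cY)
  (f : cX.pt ⟶ cS.pt) (g : cT.pt ⟶ cS.pt) (h : cY.pt ⟶ cX.pt) (e : cY.pt ⟶ cT.pt)
  (hf : ∀ j, f ≫ proj Ss cS j = proj Xs cX j ≫ fN.app (op j))
  (hg : ∀ j, g ≫ proj Ss cS j = proj Ts cT j ≫ gN.app (op j))
  (hh : ∀ j, h ≫ proj Xs cX j = proj Ys cY j ≫ hN.app (op j))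
  (he : ∀ j, e ≫ proj Ts cT j = proj Ys cY j ≫ eN.app (op j))
  (w : e ≫ g = h ≫ f)

include P hcX hcS hcT hcY hf hg hh he in
/-- The comparison of stalk complexes is a quasi-isomorphism at the limit if it is one on all stages. -/
theorem quasiIso_stCx_limit {M : CochainComplex (AbSys Ts) ℤ} {M' : CochainComplex (AbSys Ys) ℤ}
    (r : ssCx P M ⟶ M')
    (φ : ((EtCoh.pull e).mapHomologicalComplex up).obj (((pullSys Ts cT).mapHomologicalComplex up).obj M) ⟶
        ((pullSys Ys cY).mapHomologicalComplex up).obj M')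
    (hφ : ∀ j p, (coneC cT (M.X p) j).comp (CHom.mk e (φ.f p)) =
        (CHom.mk (eN.app (op j)) ((thetaCx P r j).f p)).comp (coneC cY (M'.X p) j))
    (hq : ∀ i, QuasiIso (cxMap (gN.app (op i)) (fN.app (op i)) (hN.app (op i)) (eN.app (op i)) (sq i)
      (thetaCx P r i)))
    {Ω : Type u} [Field Ω] [IsSepClosed Ω] (ξ : Spec (CommRingCat.of Ω) ⟶ cX.pt) :
    QuasiIso (stCx g f h e w ξ φ) := by
  have hpt : ∀ i, (ξ ≫ proj Xs cX i) ≫ fN.app (op i) = (ξ ≫ f) ≫ proj Ss cS i := fun i =>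
    (Category.assoc _ _ _).trans ((congrArg (ξ ≫ ·) (hf i).symm).trans (Category.assoc _ _ _).symm)
  let m := fun i => stC (gN.app (op i)) (fN.app (op i)) (hN.app (op i)) (eN.app (op i)) (sq i)
    (ξ ≫ proj Xs cX i) ((ξ ≫ f) ≫ proj Ss cS i) (hpt i) (thetaCx P r i)
  have hts : ∀ ⦃i j : ι⦄ (hij : i ≤ j),
      stTr gN cS M (ξ ≫ f) hij ≫ m j = m i ≫ stTr hN cX M' ξ hij := fun i j hij => by
    refine (stC_comp (gN.app (op i)) (trn Ss hij) (gN.app (op j)) (trn Ts hij) (trn_gN gN hij)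
      (hN.app (op j)) (fN.app (op j)) (eN.app (op j)) (sq j)
      (by rw [Category.assoc, trn_gN gN hij, reassoc_of% (sq j)])
      (ξ ≫ proj Xs cX j) _ _ (pt_trn cS (ξ ≫ f) hij) (hpt j)
      ((Category.assoc _ _ _).symm.trans ((congrArg (· ≫ trn Ss hij) (hpt j)).trans
        (pt_trn cS (ξ ≫ f) hij))) (trCx M hij) (thetaCx P r j)).trans ?_
    refine Eq.trans ?_ (stC_comp (gN.app (op i)) (fN.app (op i)) (hN.app (op i)) (eN.app (op i)) (sq i)
      (hN.app (op j)) (trn Xs hij) (trn Ys hij) (trn_gN hN hij)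
      (by rw [Category.assoc, sq i, ← Category.assoc, trn_gN hN hij, Category.assoc])
      (ξ ≫ proj Xs cX j) _ _ (hpt i) (pt_trn cX ξ hij)
      ((Category.assoc _ _ _).symm.trans ((congrArg (· ≫ fN.app (op i)) (pt_trn cX ξ hij)).trans (hpt i)))
      (thetaCx P r i) (trCx M' hij)).symm
    exact stC_congr _ _ _ _ _ (trn_gN fN hij).symm (trn_gN eN hij).symm _ _ _ _ _
      fun n => (mk_cxComp_f (trn Ts hij) (eN.app (op j)) (trCx M hij) (thetaCx P r j) n).trans
        (Eq.trans (b := (trC (M.X n) hij).comp (CHom.mk (eN.app (op j)) ((thetaCx P r j).f n))) rfl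
          ((trC_theta P r hij n).trans
            (mk_cxComp_f (eN.app (op i)) (trn Ys hij) (thetaCx P r i) (trCx M' hij) n).symm))
  have hm : ∀ i, stTo gN cT cS g hg M (ξ ≫ f) i ≫ stC g f h e w ξ (ξ ≫ f) rfl φ =
      m i ≫ stTo hN cY cX h hh M' ξ i := fun i => by
    refine (stC_comp (gN.app (op i)) (proj Ss cS i) g (proj Ts cT i) (hg i).symm h f e w
      (by rw [Category.assoc, ← hg i, reassoc_of% w])
      ξ _ _ rfl rfl (Category.assoc _ _ _).symm (coneCx cT M i) φ).trans ?_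
    refine Eq.trans ?_ (stC_comp (gN.app (op i)) (fN.app (op i)) (hN.app (op i)) (eN.app (op i)) (sq i)
      h (proj Xs cX i) (proj Ys cY i) (hh i).symm
      (by rw [Category.assoc, sq i, ← Category.assoc, ← hh i, Category.assoc])
      ξ _ _ (hpt i) rfl ((Category.assoc _ _ _).symm.trans (hpt i))
      (thetaCx P r i) (coneCx cY M' i)).symm
    exact stC_congr _ _ _ _ _ (hf i) (he i) _ _ _ _ _
      fun n => (mk_cxComp_f (proj Ts cT i) e (coneCx cT M i) φ n).trans
        (Eq.trans (b := (coneC cT (M.X n) i).comp (CHom.mk e (φ.f n))) rfl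
          ((hφ i n).trans
            (mk_cxComp_f (eN.app (op i)) (proj Ys cY i) (thetaCx P r i) (coneCx cY M' i) n).symm))
  refine (quasiIso_stC_iff g f h e w ξ (ξ ≫ f) rfl φ).1 ?_
  refine quasiIso_of_colimit (t := fun i j hij => stTr gN cS M (ξ ≫ f) hij)
    (s := fun i j hij => stTr hN cX M' ξ hij)
    (la := fun i => stTo gN cT cS g hg M (ξ ≫ f) i) (lb := fun i => stTo hN cY cX h hh M' ξ i) m _
    (fun i j hij n x => ConcreteCategory.congr_hom (congrArg (fun φ => φ.f n) (hts hij)) x)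
    (fun i j hij n x => ConcreteCategory.congr_hom
      (congrArg (fun φ => φ.f n) (stTr_stTo gN cT cS g hg M (ξ ≫ f) hij)) x)
    (fun i j hij n x => ConcreteCategory.congr_hom
      (congrArg (fun φ => φ.f n) (stTr_stTo hN cY cX h hh M' ξ hij)) x)
    (fun i n x => ConcreteCategory.congr_hom (congrArg (fun φ => φ.f n) (hm i)) x)
    (fun n x => stTo_surj gN cT cS g hg M (ξ ≫ f) hcT hcS n x)
    (fun n x => stTo_surj hN cY cX h hh M' ξ hcY hcX n x)
    (fun n i y => stTo_inj gN cT cS g hg M (ξ ≫ f) hcT hcS n i y)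
    (fun n i y => stTo_inj hN cY cX h hh M' ξ hcY hcX n i y)
    (fun i => (quasiIso_stC_iff _ _ _ _ (sq i) _ _ (hpt i) _).2
      (quasiIso_stCx _ _ _ _ (sq i) _ (thetaCx P r i) (hq i)))

include hcX hcS hcT hcY hf hg hh he in
/-- The base change morphism is invertible at the limit if it is so on all stages after a least one. -/
theorem isIso_bcMap_limit
    [∀ a, PreservesFiniteLimits (EtCoh.pull (eN.app a))] [PreservesFiniteLimits (EtCoh.pull e)]
    [∀ a, DCoh.HasRpushEt (Ts.obj a) (gN.app a)] [∀ a, DCoh.HasRpushEt (Ys.obj a) (hN.app a)]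
    [∀ a, DCoh.HasRpushEt (Xs.obj a) (fN.app a)]
    (adjs : ∀ a, EtBC.pullD (fN.app a) ⊣ DCoh.RpushEt (Xs.obj a) (fN.app a))
    [DCoh.HasRpushEt cT.pt g] [DCoh.HasRpushEt cY.pt h] [DCoh.HasRpushEt cX.pt f]
    (adj : EtBC.pullD f ⊣ DCoh.RpushEt cX.pt f)
    (i₀ : ι) (hmin : ∀ j, i₀ ≤ j) (K₀ : DCoh.DEt (Ts.obj (op i₀))) (n : ℤ) [K₀.IsGE n]
    (hstage : ∀ i, IsIso (EtBC.bcMap (gN.app (op i)) (fN.app (op i)) (hN.app (op i)) (eN.app (op i))
      (sq i) (adjs (op i)) ((EtBC.pullD (trn Ts (hmin i))).obj K₀))) :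
    IsIso (EtBC.bcMap g f h e w adj ((EtBC.pullD (proj Ts cT i₀)).obj K₀)) := by
  obtain ⟨A, hA, ⟨eA₀⟩⟩ := DerivedCategory.exists_iso_Q_obj_of_isGE K₀ n
  let eA : DerivedCategory.Qh.obj ((HomotopyCategory.quotient _ up).obj A) ≅ K₀ :=
    (DerivedCategory.quotientCompQhIso (EtCoh.Ab (Ts.obj (op i₀)))).app A ≪≫ eA₀.symm
  let adjI := (incl Ts i₀).sheafAdjunctionContinuous AddCommGrpCat.{u + 1}
    (Ts.obj (op i₀)).smallEtaleTopology (top' Ts)
  let L := (incl Ts i₀).sheafPullback AddCommGrpCat.{u + 1} (Ts.obj (op i₀)).smallEtaleTopology (top' Ts)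
  haveI : L.Additive := adjI.left_adjoint_additive
  let C := (L.mapHomologicalComplex up).obj A
  haveI : CochainComplex.IsStrictlyGE C n := isStrictlyGE_map L A n
  obtain ⟨M, ι₀, hι₀, hMinj, hM⟩ := exists_injective_resolution C n
  obtain ⟨P⟩ := nonempty_pullSystem eN
  haveI : CochainComplex.IsStrictlyGE (ssCx P M) n := isStrictlyGE_map P.F M n
  obtain ⟨M', r, hr, hM'inj, hM'⟩ :=
    exists_injective_resolution (ssCx P M) n
  let u₀ : A ⟶ resX M i₀ :=
    { f := fun p => fromStageUnit i₀ (A.X p) ≫ (res Ts i₀).map (ι₀.f p)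
      comm' := fun p q _ => by
        refine (Category.assoc _ _ _).trans ?_
        refine (congrArg (fromStageUnit i₀ (A.X p) ≫ ·) (((res Ts i₀).map_comp _ _).symm.trans
          ((congrArg (res Ts i₀).map (ι₀.comm p q)).trans ((res Ts i₀).map_comp _ _)))).trans ?_
        exact (Category.assoc _ _ _).symm.trans ((congrArg (· ≫ (res Ts i₀).map (ι₀.f q))
          (adjI.unit.naturality (A.d p q)).symm).trans (Category.assoc _ _ _)) }
  let W := fun j => ((EtCoh.pull (trn Ts (hmin j))).mapHomologicalComplex up).map u₀ ≫ trCx M (hmin j)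
  have hW : ∀ j, QuasiIso (W j) := fun j => by
    let FH : ((EtCoh.pull (trn Ts (hmin j))).mapHomologicalComplex up).obj A ⟶
        ((res Ts j).mapHomologicalComplex up).obj C :=
      { f := fun p => fromStageHom i₀ (A.X p) (hmin j)
        comm' := fun p q _ => (fromStageHom_natural i₀ (A.d p q) (hmin j)).symm }
    haveI : ∀ p, IsIso (FH.f p) := fun p => isIso_fromStageHom i₀ (A.X p) (hmin j)
    haveI : IsIso FH := HomologicalComplex.Hom.isIso_of_components _
    have e1 : FH ≫ ((res Ts j).mapHomologicalComplex up).map ι₀ = W j := by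
      refine HomologicalComplex.hom_ext _ _ fun p => ?_
      have h1 := congrArg (CHom.post · ((res Ts j).map (ι₀.f p))) (fromStageHom_eq i₀ (A.X p) (hmin j))
      refine (eq_of_heq (CHom.mk.inj (h1.trans ?_)).2 : _)
      exact (CHom.post_pre (trC (C.X p) (hmin j)) _ _).trans
        ((congrArg (CHom.pre · (fromStageUnit i₀ (A.X p))) (trC_natural (ι₀.f p) (hmin j))).trans
          (pre_pre _ _ _))
    rw [← e1]
    exact qi_comp (qi_of_isIso inferInstance) inferInstance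
  have hθ : ∀ j, QuasiIso (thetaCx P r j) := fun j =>
    qi_comp (qi_of_isIso (isIso_nuCx P M j)) inferInstance
  have hMj : ∀ j, CochainComplex.IsKInjective (resX M j) := fun j =>
    haveI : CochainComplex.IsStrictlyGE (resX M j) n := isStrictlyGE_map _ M n
    haveI : ∀ p, Injective ((resX M j).X p) := fun p => haveI := hMinj p; (res Ts j).injective_obj _
    CochainComplex.isKInjective_of_injective _ n
  have hM'j : ∀ j, CochainComplex.IsKInjective (resX M' j) := fun j =>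
    haveI : CochainComplex.IsStrictlyGE (resX M' j) n := isStrictlyGE_map _ M' n
    haveI : ∀ p, Injective ((resX M' j).X p) := fun p => haveI := hM'inj p; (res Ys j).injective_obj _
    CochainComplex.isKInjective_of_injective _ n
  have hq : ∀ i, QuasiIso (cxMap (gN.app (op i)) (fN.app (op i)) (hN.app (op i)) (eN.app (op i)) (sq i)
      (thetaCx P r i)) := fun i =>
    haveI := hW i
    haveI := hθ i
    haveI := hMj i
    haveI := hM'j i
    (isIso_bcMap_iff _ _ _ _ (sq i) (adjs (op i)) (resX M i) (resIso (trn Ts (hmin i)) (W i) eA)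
      (resX M' i) (thetaCx P r i)).1 (hstage i)
  let u' : ((EtCoh.pull (eN.app (op i₀))).mapHomologicalComplex up).obj A ⟶ resX M' i₀ :=
    ((EtCoh.pull (eN.app (op i₀))).mapHomologicalComplex up).map u₀ ≫ thetaCx P r i₀
  have hW' : ∀ j, QuasiIso (((EtCoh.pull (trn Ys (hmin j))).mapHomologicalComplex up).map u' ≫
      trCx M' (hmin j)) := fun j => by
    refine (qi_cxComp_iff (eN.app (op i₀)) (trn Ys (hmin j)) u' (trCx M' (hmin j))).1 ?_
    haveI := hW j
    haveI := hθ j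
    refine (qi_congr (trn_gN eN (hmin j)).symm fun p => ?_).1
      (quasiIso_cxComp (trn Ts (hmin j)) (eN.app (op j)) (W j) (thetaCx P r j))
    refine (mk_cxComp_f _ _ _ _ p).trans (Eq.trans ?_ (mk_cxComp_f _ _ _ _ p).symm)
    show ((trC (M.X p) (hmin j)).pre (u₀.f p)).comp (CHom.mk _ ((thetaCx P r j).f p)) =
      ((CHom.mk _ ((thetaCx P r i₀).f p)).pre (u₀.f p)).comp (trC (M'.X p) (hmin j))
    exact (CHom.pre_comp _ _ _).trans ((congrArg (CHom.pre · (u₀.f p)) (trC_theta P r (hmin j) p)).trans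
      (CHom.pre_comp _ _ _).symm)
  let Winf := ((EtCoh.pull (proj Ts cT i₀)).mapHomologicalComplex up).map u₀ ≫ coneCx cT M i₀
  haveI hWl : QuasiIso Winf := quasiIso_coneCx cT M i₀ hmin A u₀ hW
  have hW'l := quasiIso_coneCx cY M' i₀ hmin _ u' hW'
  obtain ⟨φ, hφ⟩ := exists_phiCx P cT cY e he r
  haveI hφq : QuasiIso φ := by
    have h1 : QuasiIso (cxComp (proj Ts cT i₀) e Winf φ) := by
      refine (qi_congr (he i₀).symm fun p => ?_).1
        ((qi_cxComp_iff (eN.app (op i₀)) (proj Ys cY i₀) u' (coneCx cY M' i₀)).2 hW'l)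
      refine (mk_cxComp_f _ _ _ _ p).trans (Eq.trans ?_ (mk_cxComp_f _ _ _ _ p).symm)
      show ((CHom.mk _ ((thetaCx P r i₀).f p)).pre (u₀.f p)).comp (coneC cY (M'.X p) i₀) =
        ((coneC cT (M.X p) i₀).pre (u₀.f p)).comp (CHom.mk e (φ.f p))
      exact (CHom.pre_comp _ _ _).trans ((congrArg (CHom.pre · (u₀.f p))
        (hφ i₀ p).symm).trans (CHom.pre_comp _ _ _).symm)
    have h2 := (qi_cxComp_iff _ _ _ _).1 h1
    exact quasiIso_of_comp_left (((EtCoh.pull e).mapHomologicalComplex up).map Winf) _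
  haveI : CochainComplex.IsStrictlyGE (((pullSys Ts cT).mapHomologicalComplex up).obj M) n :=
    isStrictlyGE_map _ M n
  haveI : CochainComplex.IsStrictlyGE (((pullSys Ys cY).mapHomologicalComplex up).obj M') n :=
    isStrictlyGE_map _ M' n
  refine (isIso_bcMap_iff' g f h e w adj _
    (isIso_β_of_acyclic g _ n fun p j => haveI := hMinj p; isZero_Rpush_pullSys gN cT cS g hg (M.X p) hcT hcS j)
    (resIso (proj Ts cT i₀) Winf eA) _
    (isIso_β_of_acyclic h _ n fun p j => haveI := hM'inj p; isZero_Rpush_pullSys hN cY cX h hh (M'.X p) hcY hcX j)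
    φ).2 ?_
  exact (quasiIso_cxMap_iff g f h e w _).2 fun s =>
    quasiIso_stCx_limit fN gN hN P sq cX hcX cS hcS cT hcT cY hcY f g h e hf hg hh he w r φ hφ hq (geomPoint s)

end Stalk

end Groth.EtaleBase.BCD
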