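import Groth.Agent.EtaleBase.BCD.SysCx

/-!
Stalk complexes of direct images at a limit are colimits of those at the stages.
-/

set_option autoImplicit false

universe u

open CategoryTheory CategoryTheory.Limits AlgebraicGeometry Opposite

namespace Groth.EtaleBase.BCD

open EtLimit

attribute [local instance] pull_preservesFiniteLimits

local notation "up" => ComplexShape.up ℤ

variable {ι : Type u} [Preorder ι] [Nonempty ι] [IsDirectedOrder ι] {Ts Ss : ιᵒᵖ ⥤ Scheme.{u}}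
  (gN : Ts ⟶ Ss) (cT : Cone Ts) (cS : Cone Ss) (g : cT.pt ⟶ cS.pt)
  (hg : ∀ j, g ≫ proj Ss cS j = proj Ts cT j ≫ gN.app (op j))
  (M : CochainComplex (AbSys Ts) ℤ) {Ω : Type u} [Field Ω] [IsSepClosed Ω]
  (η : Spec (CommRingCat.of Ω) ⟶ cS.pt)

/-- The stalk complex on a stage. -/
noncomputable abbrev stageStX (i : ι) : CochainComplex AddCommGrpCat.{u + 1} ℤ :=
  stX (gN.app (op i)) (η ≫ proj Ss cS i) (resX M i)

/-- The stalk complex at the limit. -/
noncomputable abbrev limStX : CochainComplex AddCommGrpCat.{u + 1} ℤ :=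
  stX g η (((pullSys Ts cT).mapHomologicalComplex up).obj M)

/-- The transition on stalk complexes. -/
noncomputable def stTr {i j : ι} (h : i ≤ j) :
    stageStX gN cS M η i ⟶ stageStX gN cS M η j :=
  stC (gN.app (op i)) (trn Ss h) (gN.app (op j)) (trn Ts h) (trn_gN gN h) (η ≫ proj Ss cS j)
    (η ≫ proj Ss cS i) (pt_trn cS η h) (trCx M h)

/-- The map to the stalk complex at the limit. -/
noncomputable def stTo (i : ι) : stageStX gN cS M η i ⟶ limStX cT cS g M η :=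
  stC (gN.app (op i)) (proj Ss cS i) g (proj Ts cT i) (hg i).symm η (η ≫ proj Ss cS i) rfl (coneCx cT M i)

theorem stTr_stTo {i j : ι} (h : i ≤ j) :
    stTr gN cS M η h ≫ stTo gN cT cS g hg M η j = stTo gN cT cS g hg M η i := by
  refine (stC_comp (gN.app (op i)) (trn Ss h) (gN.app (op j)) (trn Ts h) (trn_gN gN h) g (proj Ss cS j)
    (proj Ts cT j) (hg j).symm (by rw [proj_trn, proj_trn]; exact (hg i).symm) η _ _ (pt_trn cS η h) rfl
    ((Category.assoc _ _ _).symm.trans (pt_trn cS η h)) (trCx M h) (coneCx cT M j)).trans ?_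
  exact stC_congr _ _ _ _ _ (proj_trn Ss cS h) (proj_trn Ts cT h) (hg i).symm η _ _ rfl
    fun n => (mk_cxComp_f _ _ _ _ n).trans (trC_coneC cT (M.X n) h)

/-- The identification of the degreewise stalks. -/
noncomputable abbrev R0 {T B : Scheme.{u}} (p : T ⟶ B) (ζ : Spec (CommRingCat.of Ω) ⟶ B) (F : EtCoh.Ab T) :
    (EtCoh.stalk ζ).obj ((EtCoh.push p).obj F) ⟶ (EtCoh.stalk ζ).obj ((EtCoh.Rpush p 0).obj F) :=
  (EtCoh.stalk ζ).map ((EtCoh.push p).toRightDerivedZero.app F)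

lemma bijective_R0 {T B : Scheme.{u}} (p : T ⟶ B) (ζ : Spec (CommRingCat.of Ω) ⟶ B) (F : EtCoh.Ab T) :
    Function.Bijective (R0 p ζ F) :=
  haveI := preservesFiniteLimits_push p
  (ConcreteCategory.isIso_iff_bijective _).1 inferInstance

variable [∀ (p q : ιᵒᵖ) (m : p ⟶ q), IsAffineHom (Ts.map m)]
  [∀ (p q : ιᵒᵖ) (m : p ⟶ q), IsAffineHom (Ss.map m)] [∀ a : ιᵒᵖ, QuasiCompact (gN.app a)]
  [∀ a : ιᵒᵖ, QuasiSeparated (gN.app a)]

theorem stTo_surj (hcT : IsLimit cT) (hcS : IsLimit cS) (n : ℤ) (x : (limStX cT cS g M η).X n) :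
    ∃ (i : ι) (y : (stageStX gN cS M η i).X n), (stTo gN cT cS g hg M η i).f n y = x := by
  obtain ⟨i, y', hy'⟩ := sys_stalk_surj gN cT cS g hg (M.X n) η 0 hcT hcS
    (R0 g η ((pullSys Ts cT).obj (M.X n)) x)
  obtain ⟨y, rfl⟩ := (bijective_R0 (gN.app (op i)) (η ≫ proj Ss cS i) ((res Ts i).obj (M.X n))).2 y'
  refine ⟨i, y, (bijective_R0 g η ((pullSys Ts cT).obj (M.X n))).1 ?_⟩
  exact (ConcreteCategory.congr_hom (stC_f (gN.app (op i)) (proj Ss cS i) g (proj Ts cT i) (hg i).symm η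
    (η ≫ proj Ss cS i) rfl (coneCx cT M i) n) y).trans hy'

theorem stTo_inj (hcT : IsLimit cT) (hcS : IsLimit cS) (n : ℤ) (i : ι) (y : (stageStX gN cS M η i).X n)
    (hy : (stTo gN cT cS g hg M η i).f n y = 0) :
    ∃ (k : ι) (h : i ≤ k), (stTr gN cS M η h).f n y = 0 := by
  let R := R0 (gN.app (op i)) (η ≫ proj Ss cS i) ((res Ts i).obj (M.X n))
  have h0 : (coneS gN cT cS g hg (M.X n) i).st η (η ≫ proj Ss cS i) rfl 0 (R y) = 0 :=
    (ConcreteCategory.congr_hom (stC_f (gN.app (op i)) (proj Ss cS i) g (proj Ts cT i) (hg i).symm η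
      (η ≫ proj Ss cS i) rfl (coneCx cT M i) n) y).symm.trans
      ((congrArg (R0 g η ((pullSys Ts cT).obj (M.X n))) hy).trans (map_zero _))
  obtain ⟨k, h, hk⟩ := sys_stalk_inj gN cT cS g hg (M.X n) η 0 hcT hcS i (R y) h0
  refine ⟨k, h, (bijective_R0 (gN.app (op k)) (η ≫ proj Ss cS k) ((res Ts k).obj (M.X n))).1 ?_⟩
  exact ((ConcreteCategory.congr_hom (stC_f (gN.app (op i)) (trn Ss h) (gN.app (op k)) (trn Ts h)
    (trn_gN gN h) (η ≫ proj Ss cS k) (η ≫ proj Ss cS i) (pt_trn cS η h) (trCx M h) n) y).trans hk).trans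
      (map_zero _).symm

end Groth.EtaleBase.BCD
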