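import Groth.Agent.EtaleBase.BCD.Stalk
import Groth.Agent.EtaleBase.Limit.SysPull

/-!
Complexes of systems of sheaves: transition and cone morphisms, and their quasi-isomorphism criteria.
-/

set_option autoImplicit false

universe u

open CategoryTheory CategoryTheory.Limits AlgebraicGeometry Opposite

namespace Groth.EtaleBase.BCD

open EtLimit

attribute [local instance] pull_preservesFiniteLimits

local notation "up" => ComplexShape.up ℤ

section Congr

variable {X S X' S' : Scheme.{u}}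

/-- Quasi-isomorphy depends on the degreewise morphisms along morphisms of schemes. -/
lemma qi_congr {m₁ m₂ : X' ⟶ X} (hm : m₁ = m₂) {I : CochainComplex (EtCoh.Ab X) ℤ}
    {J : CochainComplex (EtCoh.Ab X') ℤ}
    {φ₁ : ((EtCoh.pull m₁).mapHomologicalComplex up).obj I ⟶ J}
    {φ₂ : ((EtCoh.pull m₂).mapHomologicalComplex up).obj I ⟶ J}
    (h : ∀ n, CHom.mk m₁ (φ₁.f n) = CHom.mk m₂ (φ₂.f n)) : QuasiIso φ₁ ↔ QuasiIso φ₂ := by
  subst hm
  rw [show φ₁ = φ₂ from HomologicalComplex.hom_ext _ _ fun n => eq_of_heq (CHom.mk.inj (h n)).2]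

lemma qi_cxComp_iff {X'' : Scheme.{u}} (g' : X' ⟶ X) (k : X'' ⟶ X') {I : CochainComplex (EtCoh.Ab X) ℤ}
    {J : CochainComplex (EtCoh.Ab X') ℤ} {L : CochainComplex (EtCoh.Ab X'') ℤ}
    (φ : ((EtCoh.pull g').mapHomologicalComplex up).obj I ⟶ J)
    (ψ : ((EtCoh.pull k).mapHomologicalComplex up).obj J ⟶ L) :
    QuasiIso (cxComp g' k φ ψ) ↔ QuasiIso (((EtCoh.pull k).mapHomologicalComplex up).map φ ≫ ψ) := by
  haveI : ∀ n, IsIso (((NatTrans.mapHomologicalComplex (EtCore.pullComp k g').hom up).app I).f n) := fun n =>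
    inferInstanceAs (IsIso ((EtCore.pullComp k g').hom.app _))
  haveI : IsIso ((NatTrans.mapHomologicalComplex (EtCore.pullComp k g').hom up).app I) :=
    HomologicalComplex.Hom.isIso_of_components _
  unfold cxComp
  rw [quasiIso_iff_comp_left, quasiIso_iff_comp_left]

lemma mk_cxComp_f {X'' : Scheme.{u}} (g' : X' ⟶ X) (k : X'' ⟶ X') {I : CochainComplex (EtCoh.Ab X) ℤ}
    {J : CochainComplex (EtCoh.Ab X') ℤ} {L : CochainComplex (EtCoh.Ab X'') ℤ}
    (φ : ((EtCoh.pull g').mapHomologicalComplex up).obj I ⟶ J)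
    (ψ : ((EtCoh.pull k).mapHomologicalComplex up).obj J ⟶ L) (n : ℤ) :
    CHom.mk (k ≫ g') ((cxComp g' k φ ψ).f n) = (CHom.mk g' (φ.f n)).comp (CHom.mk k (ψ.f n)) :=
  congrArg (CHom.mk (k ≫ g')) (cxComp_f g' k φ ψ n)

variable (f : X ⟶ S) (g : S' ⟶ S) (f' : X' ⟶ S') (g' : X' ⟶ X) (w : g' ≫ f = f' ≫ g)
  {Ω : Type u} [Field Ω] [IsSepClosed Ω]

/-- The comparison of stalk complexes at a given point of the base. -/
noncomputable def stC (ξ : Spec (CommRingCat.of Ω) ⟶ S') (η : Spec (CommRingCat.of Ω) ⟶ S) (h : ξ ≫ g = η)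
    {I : CochainComplex (EtCoh.Ab X) ℤ} {J : CochainComplex (EtCoh.Ab X') ℤ}
    (φ : ((EtCoh.pull g').mapHomologicalComplex up).obj I ⟶ J) : stX f η I ⟶ stX f' ξ J :=
  eqToHom (by rw [h]) ≫ stCx f g f' g' w ξ φ

lemma quasiIso_stC_iff (ξ : Spec (CommRingCat.of Ω) ⟶ S') (η : Spec (CommRingCat.of Ω) ⟶ S) (h : ξ ≫ g = η)
    {I : CochainComplex (EtCoh.Ab X) ℤ} {J : CochainComplex (EtCoh.Ab X') ℤ}
    (φ : ((EtCoh.pull g').mapHomologicalComplex up).obj I ⟶ J) :
    QuasiIso (stC f g f' g' w ξ η h φ) ↔ QuasiIso (stCx f g f' g' w ξ φ) := by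
  unfold stC
  exact quasiIso_iff_comp_left _ _

lemma stC_f (ξ : Spec (CommRingCat.of Ω) ⟶ S') (η : Spec (CommRingCat.of Ω) ⟶ S) (h : ξ ≫ g = η)
    {I : CochainComplex (EtCoh.Ab X) ℤ} {J : CochainComplex (EtCoh.Ab X') ℤ}
    (φ : ((EtCoh.pull g').mapHomologicalComplex up).obj I ⟶ J) (n : ℤ) :
    (stC f g f' g' w ξ η h φ).f n ≫ (EtCoh.stalk ξ).map ((EtCoh.push f').toRightDerivedZero.app (J.X n)) =
      (EtCoh.stalk η).map ((EtCoh.push f).toRightDerivedZero.app (I.X n)) ≫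
        (SMor.mk (g := f) (g' := f') g ⟨g', φ.f n⟩ w).st ξ η h 0 := by
  subst h
  rw [SMor.st_rfl, stC, eqToHom_refl, Category.id_comp]
  exact (stalkBC_zero f g f' g' w ξ (φ.f n)).symm

lemma stC_congr {g₂ : S' ⟶ S} {e₂ : X' ⟶ X} (hg : g = g₂) (he : g' = e₂) (w₂ : e₂ ≫ f = f' ≫ g₂)
    (ξ : Spec (CommRingCat.of Ω) ⟶ S') (η : Spec (CommRingCat.of Ω) ⟶ S) (h : ξ ≫ g = η) (h₂ : ξ ≫ g₂ = η)
    {I : CochainComplex (EtCoh.Ab X) ℤ} {J : CochainComplex (EtCoh.Ab X') ℤ}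
    {φ : ((EtCoh.pull g').mapHomologicalComplex up).obj I ⟶ J}
    {φ₂ : ((EtCoh.pull e₂).mapHomologicalComplex up).obj I ⟶ J}
    (hφ : ∀ n, CHom.mk g' (φ.f n) = CHom.mk e₂ (φ₂.f n)) :
    stC f g f' g' w ξ η h φ = stC f g₂ f' e₂ w₂ ξ η h₂ φ₂ := by
  subst hg he
  rw [show φ = φ₂ from HomologicalComplex.hom_ext _ _ fun n => eq_of_heq (CHom.mk.inj (hφ n)).2]

variable {X'' S'' : Scheme.{u}} (f'' : X'' ⟶ S'') (g₁ : S'' ⟶ S') (k : X'' ⟶ X') (w' : k ≫ f' = f'' ≫ g₁)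
  (w'' : (k ≫ g') ≫ f = f'' ≫ (g₁ ≫ g))

theorem stC_comp (ζ : Spec (CommRingCat.of Ω) ⟶ S'') (ξ : Spec (CommRingCat.of Ω) ⟶ S')
    (η : Spec (CommRingCat.of Ω) ⟶ S) (h : ξ ≫ g = η) (h₁ : ζ ≫ g₁ = ξ) (h₂ : ζ ≫ g₁ ≫ g = η)
    {I : CochainComplex (EtCoh.Ab X) ℤ} {J : CochainComplex (EtCoh.Ab X') ℤ}
    {L : CochainComplex (EtCoh.Ab X'') ℤ}
    (φ : ((EtCoh.pull g').mapHomologicalComplex up).obj I ⟶ J)
    (ψ : ((EtCoh.pull k).mapHomologicalComplex up).obj J ⟶ L) :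
    stC f g f' g' w ξ η h φ ≫ stC f' g₁ f'' k w' ζ ξ h₁ ψ =
      stC f (g₁ ≫ g) f'' (k ≫ g') w'' ζ η h₂ (cxComp g' k φ ψ) := by
  subst h h₁
  refine Eq.trans ?_ (congrArg (eqToHom _ ≫ ·) (stCx_comp f g f' g' w f'' g₁ k w' w'' φ ψ ζ))
  simp only [stC, eqToHom_refl, Category.id_comp, Category.assoc]
  rfl

end Congr

section Sys

variable {ι : Type u} [Preorder ι] {Ts : ιᵒᵖ ⥤ Scheme.{u}}

/-- The complex on a stage. -/
noncomputable abbrev resX (M : CochainComplex (AbSys Ts) ℤ) (i : ι) :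
    CochainComplex (EtCoh.Ab (Ts.obj (op i))) ℤ :=
  ((res Ts i).mapHomologicalComplex up).obj M

/-- The transition morphism of complexes. -/
noncomputable def trCx (M : CochainComplex (AbSys Ts) ℤ) {i j : ι} (h : i ≤ j) :
    ((EtCoh.pull (trn Ts h)).mapHomologicalComplex up).obj (resX M i) ⟶ resX M j where
  f n := (trC (M.X n) h).α
  comm' p q _ := eq_of_heq (CHom.mk.inj (trC_natural (M.d p q) h)).2

lemma isIso_of_res {M N : AbSys Ts} (φ : M ⟶ N) (h : ∀ j, IsIso ((res Ts j).map φ)) : IsIso φ := by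
  haveI : ∀ a, IsIso (φ.hom.app a) := fun a => by
    haveI := h a.unop.idx
    exact inferInstanceAs (IsIso (((sheafToPresheaf _ _).map ((res Ts a.unop.idx).map φ)).app (op a.unop.obj)))
  haveI : IsIso ((sheafToPresheaf _ _).map φ) := NatIso.isIso_of_isIso_app φ.hom
  exact isIso_of_reflects_iso _ (sheafToPresheaf _ _)

theorem quasiIso_of_res {K L : CochainComplex (AbSys Ts) ℤ} (φ : K ⟶ L)
    (h : ∀ j, QuasiIso (((res Ts j).mapHomologicalComplex up).map φ)) : QuasiIso φ := by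
  rw [quasiIso_iff]
  intro n
  rw [quasiIsoAt_iff_isIso_homologyMap]
  exact isIso_of_res _ fun j => (isIso_map_homologyMap_iff (res Ts j) φ n).2 ((quasiIso_iff _).1 (h j) n)

variable [Nonempty ι] [IsDirectedOrder ι] (cT : Cone Ts)

/-- The morphism of complexes to the limit. -/
noncomputable def coneCx (M : CochainComplex (AbSys Ts) ℤ) (j : ι) :
    ((EtCoh.pull (proj Ts cT j)).mapHomologicalComplex up).obj (resX M j) ⟶
      ((pullSys Ts cT).mapHomologicalComplex up).obj M where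
  f n := (coneC cT (M.X n) j).α
  comm' p q _ := eq_of_heq (CHom.mk.inj (coneC_natural cT (M.d p q) j)).2

lemma pre_pre {A B : Scheme.{u}} {GA : EtCoh.Ab A} {G G' G'' : EtCoh.Ab B} (f : CHom G GA) (a : G' ⟶ G)
    (b : G'' ⟶ G') : (f.pre a).pre b = f.pre (b ≫ a) :=
  congrArg (CHom.mk f.m) ((Category.assoc _ _ _).symm.trans
    (congrArg (· ≫ f.α) ((EtCoh.pull f.m).map_comp b a).symm))

omit [Nonempty ι] [IsDirectedOrder ι] in
lemma fromStageHom_eq (i₀ : ι) (F : EtCoh.Ab (Ts.obj (op i₀))) {j : ι} (h : i₀ ≤ j) :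
    CHom.mk (trn Ts h) (fromStageHom i₀ F h) = (trC (fromStage i₀ F) h).pre (fromStageUnit i₀ F) :=
  CHom.ext_T ((CHom.T_ofT _ _).trans ((congrArg (fromStageUnit i₀ F ≫ ·) (CHom.T_ofT _ _).symm).trans
    ((trC (fromStage i₀ F) h).T_pre _).symm))

lemma fromStageLim_eq (i₀ : ι) (F : EtCoh.Ab (Ts.obj (op i₀))) :
    CHom.mk (proj Ts cT i₀) (fromStageLim i₀ F cT) =
      (coneC cT (fromStage i₀ F) i₀).pre (fromStageUnit i₀ F) :=
  CHom.ext_T ((CHom.T_ofT _ _).trans ((congrArg (fromStageUnit i₀ F ≫ ·) (CHom.T_ofT _ _).symm).trans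
    ((coneC cT (fromStage i₀ F) i₀).T_pre _).symm))

omit [Nonempty ι] [IsDirectedOrder ι] in
lemma fromStageHom_natural (i₀ : ι) {F F' : EtCoh.Ab (Ts.obj (op i₀))} (a : F ⟶ F') {j : ι} (h : i₀ ≤ j) :
    (EtCoh.pull (trn Ts h)).map a ≫ fromStageHom i₀ F' h = fromStageHom i₀ F h ≫ (res Ts j).map
      (((incl Ts i₀).sheafPullback AddCommGrpCat.{u + 1} (Ts.obj (op i₀)).smallEtaleTopology (top' Ts)).map a) := by
  refine (eq_of_heq (CHom.mk.inj (((congrArg (CHom.pre · a) (fromStageHom_eq i₀ F' h)).trans ?_).trans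
    (congrArg (CHom.post · _) (fromStageHom_eq i₀ F h)).symm)).2 : _)
  refine (pre_pre _ _ _).trans ((congrArg (trC (fromStage i₀ F') h).pre
    (((incl Ts i₀).sheafAdjunctionContinuous AddCommGrpCat.{u + 1} (Ts.obj (op i₀)).smallEtaleTopology
      (top' Ts)).unit.naturality a)).trans ?_)
  exact (pre_pre _ _ _).symm.trans ((congrArg (CHom.pre · (fromStageUnit i₀ F))
    (trC_natural (((incl Ts i₀).sheafPullback AddCommGrpCat.{u + 1} (Ts.obj (op i₀)).smallEtaleTopology (top' Ts)).map a) h).symm).trans (CHom.post_pre _ _ _).symm)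

lemma fromStageLim_natural (i₀ : ι) {F F' : EtCoh.Ab (Ts.obj (op i₀))} (a : F ⟶ F') :
    (EtCoh.pull (proj Ts cT i₀)).map a ≫ fromStageLim i₀ F' cT = fromStageLim i₀ F cT ≫ (pullSys Ts cT).map
      (((incl Ts i₀).sheafPullback AddCommGrpCat.{u + 1} (Ts.obj (op i₀)).smallEtaleTopology (top' Ts)).map a) := by
  refine (eq_of_heq (CHom.mk.inj (((congrArg (CHom.pre · a) (fromStageLim_eq cT i₀ F')).trans ?_).trans
    (congrArg (CHom.post · _) (fromStageLim_eq cT i₀ F)).symm)).2 : _)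
  refine (pre_pre _ _ _).trans ((congrArg (coneC cT (fromStage i₀ F') i₀).pre
    (((incl Ts i₀).sheafAdjunctionContinuous AddCommGrpCat.{u + 1} (Ts.obj (op i₀)).smallEtaleTopology
      (top' Ts)).unit.naturality a)).trans ?_)
  exact (pre_pre _ _ _).symm.trans ((congrArg (CHom.pre · (fromStageUnit i₀ F))
    (coneC_natural cT (((incl Ts i₀).sheafPullback AddCommGrpCat.{u + 1} (Ts.obj (op i₀)).smallEtaleTopology (top' Ts)).map a) i₀).symm).trans (CHom.post_pre _ _ _).symm)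

set_option backward.isDefEq.respectTransparency false in
/-- If all transitions from a least stage are quasi-isomorphisms, so is the morphism to the limit. -/
theorem quasiIso_coneCx (M : CochainComplex (AbSys Ts) ℤ) (i₀ : ι) (hmin : ∀ j, i₀ ≤ j)
    (B : CochainComplex (EtCoh.Ab (Ts.obj (op i₀))) ℤ) (w : B ⟶ resX M i₀)
    (hW : ∀ j, QuasiIso (((EtCoh.pull (trn Ts (hmin j))).mapHomologicalComplex up).map w ≫ trCx M (hmin j))) :
    QuasiIso (((EtCoh.pull (proj Ts cT i₀)).mapHomologicalComplex up).map w ≫ coneCx cT M i₀) := by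
  let adj := (incl Ts i₀).sheafAdjunctionContinuous AddCommGrpCat.{u + 1}
    (Ts.obj (op i₀)).smallEtaleTopology (top' Ts)
  let L := (incl Ts i₀).sheafPullback AddCommGrpCat.{u + 1} (Ts.obj (op i₀)).smallEtaleTopology (top' Ts)
  haveI : L.Additive := adj.left_adjoint_additive
  let Θ : (L.mapHomologicalComplex up).obj B ⟶ M :=
    { f := fun n => (adj.homEquiv _ _).symm (w.f n)
      comm' := fun p q _ => symm_comp_of_sq adj (w.comm p q) }
  have hΘ : ∀ n, adj.unit.app (B.X n) ≫ (res Ts i₀).map (Θ.f n) = w.f n := fun n =>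
    (adj.homEquiv_unit _ _ _).symm.trans (Equiv.apply_symm_apply _ _)
  have hstage : ∀ j n, fromStageHom i₀ (B.X n) (hmin j) ≫ (res Ts j).map (Θ.f n) =
      (EtCoh.pull (trn Ts (hmin j))).map (w.f n) ≫ (trC (M.X n) (hmin j)).α := fun j n => by
    have h := congrArg (CHom.post · ((res Ts j).map (Θ.f n))) (fromStageHom_eq i₀ (B.X n) (hmin j))
    refine (eq_of_heq (CHom.mk.inj (h.trans ?_)).2 : _)
    rw [CHom.post_pre, trC_natural, pre_pre]
    exact congrArg (trC (M.X n) (hmin j)).pre (hΘ n)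
  have hlim : ∀ n, fromStageLim i₀ (B.X n) cT ≫ (pullSys Ts cT).map (Θ.f n) =
      (EtCoh.pull (proj Ts cT i₀)).map (w.f n) ≫ (coneC cT (M.X n) i₀).α := fun n => by
    have h := congrArg (CHom.post · ((pullSys Ts cT).map (Θ.f n))) (fromStageLim_eq cT i₀ (B.X n))
    refine (eq_of_heq (CHom.mk.inj (h.trans ?_)).2 : _)
    rw [CHom.post_pre, coneC_natural, pre_pre]
    exact congrArg (coneC cT (M.X n) i₀).pre (hΘ n)
  have hres : ∀ j, QuasiIso (((res Ts j).mapHomologicalComplex up).map Θ) := fun j => by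
    let a := ((EtCoh.pull (trn Ts (hmin j))).mapHomologicalComplex up).map w ≫ trCx M (hmin j)
    let FH : ((EtCoh.pull (trn Ts (hmin j))).mapHomologicalComplex up).obj B ⟶
        ((res Ts j).mapHomologicalComplex up).obj ((L.mapHomologicalComplex up).obj B) :=
      { f := fun n => fromStageHom i₀ (B.X n) (hmin j)
        comm' := fun p q _ => by
          exact (fromStageHom_natural i₀ (B.d p q) (hmin j)).symm }
    haveI : ∀ n, IsIso (FH.f n) := fun n => isIso_fromStageHom i₀ (B.X n) (hmin j)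
    haveI : IsIso FH := HomologicalComplex.Hom.isIso_of_components _
    have e : FH ≫ ((res Ts j).mapHomologicalComplex up).map Θ = a :=
      HomologicalComplex.hom_ext _ _ fun n => hstage j n
    haveI : QuasiIso (FH ≫ ((res Ts j).mapHomologicalComplex up).map Θ) := e ▸ hW j
    exact quasiIso_of_comp_left FH _
  haveI := quasiIso_of_res Θ hres
  let FL : ((EtCoh.pull (proj Ts cT i₀)).mapHomologicalComplex up).obj B ⟶
      ((pullSys Ts cT).mapHomologicalComplex up).obj ((L.mapHomologicalComplex up).obj B) :=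
    { f := fun n => fromStageLim i₀ (B.X n) cT
      comm' := fun p q _ => (fromStageLim_natural cT i₀ (B.d p q)).symm }
  haveI : ∀ n, IsIso (FL.f n) := fun n => isIso_fromStageLim i₀ (B.X n) cT
  haveI : IsIso FL := HomologicalComplex.Hom.isIso_of_components _
  have e : FL ≫ ((pullSys Ts cT).mapHomologicalComplex up).map Θ =
      ((EtCoh.pull (proj Ts cT i₀)).mapHomologicalComplex up).map w ≫ coneCx cT M i₀ :=
    HomologicalComplex.hom_ext _ _ fun n => hlim n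
  rw [← e]
  infer_instance

end Sys

end Groth.EtaleBase.BCD
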